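import Cfsg.Agent.Omega.NOThreeL.VF.Base
import Cfsg.Agent.Omega.NO3S.OneLine.Nat
import Cfsg.Agent.Omega.NO1.Sym.Two

/-!
# NO-3L, THEOREM VF (#16966, helper597), step (6): even-subset modules (helper924)

`M : SymKM S P V ⊥ k m`, `S` a Sylow 2-subgroup of `G`, `n ∈ N_G(V)`, `1 ≠ z ∈ Ω₁(Z(S))`: `z^n` is conjugate to
`z` in `P` (`fus`).
-/

set_option autoImplicit false
set_option linter.unusedSectionVars false

namespace Cfsg.Agent.Omega.NOThreeL.VF.Sym

open Subgroup Cfsg Cfsg.Agent.ZN Cfsg.Agent.Omega.FFThm Cfsg.Agent.Omega.Half Cfsg.Agent.Omega.NO1.Sym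
open Cfsg.Agent.MinSimple.VModule (mem_zc zc_le)
open Cfsg.Agent.Omega.NO3S.OneLine (card_of_map card_mul_relIndex)

universe u

theorem zmod_cases (a : ZMod 2) : a = 0 ∨ a = 1 := by
  revert a; decide

theorem zmod_ne (a : ZMod 2) : a ≠ 0 ↔ a = 1 := by
  revert a; decide

/-- An involution without fixed points on `X` has invariant subsets of every even size. -/
theorem exists_inv {α : Type*} [DecidableEq α] (X : Finset α) (ν : α → α)
    (hν : ∀ x ∈ X, ν x ∈ X ∧ ν (ν x) = x ∧ ν x ≠ x) (r : ℕ) (hr : 2 * r ≤ X.card) :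
    ∃ B ⊆ X, B.card = 2 * r ∧ ∀ x ∈ B, ν x ∈ B := by
  induction r with
  | zero => exact ⟨∅, Finset.empty_subset X, rfl, fun x hx => absurd hx (Finset.notMem_empty x)⟩
  | succ r ih =>
    obtain ⟨B, hBX, hB, hBν⟩ := ih (by omega)
    obtain ⟨x, hx, hxB⟩ := Finset.exists_mem_notMem_of_card_lt_card (s := B) (t := X) (by omega)
    obtain ⟨h1, h2, h3⟩ := hν x hx
    have h4 : ν x ∉ B := fun h => hxB (by rw [← h2]; exact hBν _ h)
    refine ⟨insert x (insert (ν x) B), ?_, ?_, ?_⟩
    · intro y hy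
      rw [Finset.mem_insert, Finset.mem_insert] at hy
      rcases hy with rfl | rfl | hy
      · exact hx
      · exact h1
      · exact hBX hy
    · rw [Finset.card_insert_of_notMem, Finset.card_insert_of_notMem h4, hB]
      · ring
      · rw [Finset.mem_insert, not_or]
        exact ⟨Ne.symm h3, hxB⟩
    · intro y hy
      rw [Finset.mem_insert, Finset.mem_insert] at hy ⊢
      rcases hy with rfl | rfl | hy
      · exact Or.inr (Or.inl rfl)
      · exact Or.inl h2
      · exact Or.inr (Or.inr (hBν y hy))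

variable {G : Type u} [Group G] {T H V : Subgroup G} {k m : ℕ}

/-- `{p, q}` is a pair of points such that the transposition of `p` and `q` is induced by `T`. -/
def Bl (M : SymK T H V ⊥ k m) (p q : Pt k m) : Prop :=
  p ≠ q ∧ p.1 = q.1 ∧ ∃ t ∈ T, rp M t = Equiv.swap p q

/-- `u` has the coordinates of the pair `{p, q}`. -/
def Pr (M : SymK T H V ⊥ k m) (p q : Pt k m) (u : G) : Prop :=
  u ∈ V ∧ ∀ r, co M u r = if r = p ∨ r = q then 1 else 0

section basic

variable (M : SymK T H V ⊥ k m) (hm : 2 ≤ m) (hA : Amb T H V)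
include hm hA

theorem Pr.unique {p q : Pt k m} {u u' : G} (h : Pr M p q u) (h' : Pr M p q u') : u = u' :=
  ext_co M h.1 h'.1 fun r => by rw [h.2, h'.2]

theorem Pr.symm {p q : Pt k m} {u : G} (h : Pr M p q u) : Pr M q p u :=
  ⟨h.1, fun r => by rw [h.2]; simp only [or_comm]⟩

theorem Bl.symm {p q : Pt k m} (h : Bl M p q) : Bl M q p := by
  obtain ⟨h1, h2, t, ht, h3⟩ := h
  exact ⟨Ne.symm h1, h2.symm, t, ht, by rw [h3, Equiv.swap_comm]⟩

theorem Bl.snd {p q : Pt k m} (h : Bl M p q) : p.2 ≠ 0 := by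
  obtain ⟨h1, h2, t, ht, h3⟩ := h
  intro h0
  have hp : p = (p.1, 0) := Prod.ext rfl h0
  have h4 := rp_zero M (by omega) hA ht p.1
  rw [← hp, h3, Equiv.swap_apply_left] at h4
  exact h1 (Prod.ext h2 (h0.trans h4.symm))

variable [Finite G] (hT : IsPGroup 2 T) (hTH : ¬ 2 ∣ T.relIndex H)
include hT

theorem Bl.unique {p q q' : Pt k m} (h : Bl M p q) (h' : Bl M p q') : q = q' := by
  classical
  by_contra hne
  obtain ⟨h1, h2, t, ht, h3⟩ := h
  obtain ⟨h1', h2', t', ht', h3'⟩ := h'
  obtain ⟨N, hN⟩ := hT ⟨t * t', mul_mem ht ht'⟩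
  have h4 : (t * t') ^ 2 ^ N = 1 := congrArg Subtype.val hN
  have h5 : (rp M t * rp M t') ^ 2 ^ N = 1 := by
    rw [← rp_mul M (by omega) hA (hA.TH ht) (hA.TH ht'), ← rp_pow M (by omega) hA (hA.TH (mul_mem ht ht')), h4,
      rp_one M (by omega) hA]
  rw [h3, h3'] at h5
  exact three h1 h1' hne h5

include hTH

theorem exists_bl_of {p0 q0 : Pt k m} (h : Bl M p0 q0) {p : Pt k m} (hp : p.2 ≠ 0) : ∃ q, Bl M p q := by
  have h0 := Bl.snd M hm hA h
  obtain ⟨h1, h2, t, ht, h3⟩ := h
  obtain ⟨s, hs, h4⟩ := exists_T M (by omega) hA hT hTH h0 hp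
  refine ⟨rp M s q0, ?_, ?_, s * t * s⁻¹, mul_mem (mul_mem hs ht) (inv_mem hs), ?_⟩
  · rw [← h4]
    exact fun h => h1 ((rp M s).injective h)
  · rw [← h4]
    exact (rp_fst_eq M (hA.TH hs)).2 h2
  · rw [rp_mul M (by omega) hA (hA.TH (mul_mem hs ht)) (hA.TH (inv_mem hs)), rp_mul M (by omega) hA (hA.TH hs)
      (hA.TH ht), rp_inv M (by omega) hA (hA.TH hs), h3, conj_swap, h4]

end basic

section sylow

variable {S : Sylow 2 G} {P : Subgroup G} (M : SymK (S : Subgroup G) P V ⊥ k m) (hm : 2 ≤ m)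
  (hA : Amb (S : Subgroup G) P V) [Finite G]
include hm hA

theorem exists_bl0 (i : Fin k) : ∃ p q, Bl M p q := by
  have hlast : ((i, 0) : Pt k m) ≠ (i, Fin.last (2 ^ m)) := by
    intro h
    have h1 := congrArg (fun r : Pt k m => (r.2 : ℕ)) h
    simp only [Fin.val_last] at h1
    have h2 : 0 < 2 ^ m := by positivity
    change (0 : ℕ) = 2 ^ m at h1
    omega
  obtain ⟨g, hg, h⟩ := NO1.Sym.exists_swap M (by omega) hA (p := (i, 0)) (q := (i, Fin.last (2 ^ m))) rfl
  obtain ⟨a, n, hn, hgn⟩ := Nat.exists_eq_two_pow_mul_odd (orderOf_pos g).ne'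
  have h1 : (g ^ n) ^ 2 ^ a = 1 := by
    rw [← pow_mul, mul_comm, ← hgn, pow_orderOf_eq_one]
  have hsw : (Equiv.swap ((i, 0) : Pt k m) (i, Fin.last (2 ^ m))) ^ n =
      Equiv.swap ((i, 0) : Pt k m) (i, Fin.last (2 ^ m)) := by
    obtain ⟨j, rfl⟩ := hn
    rw [pow_succ, pow_mul, pow_two, Equiv.swap_mul_self, one_pow, one_mul]
  have h2 : rp M (g ^ n) = Equiv.swap ((i, 0) : Pt k m) (i, Fin.last (2 ^ m)) := by
    rw [rp_pow M (by omega) hA hg, h, hsw]
  have hQ : IsPGroup 2 (zpowers (g ^ n)) := by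
    intro x
    obtain ⟨j, hj⟩ := mem_zpowers_iff.1 x.2
    refine ⟨a, Subtype.ext ?_⟩
    rw [Subgroup.coe_pow, ← hj, ← zpow_natCast, ← zpow_mul, mul_comm, zpow_mul, zpow_natCast, h1, one_zpow]
    rfl
  obtain ⟨x, hx, hxS⟩ := VF.exists_conj_le S hA.TH hQ (by rw [zpowers_le]; exact pow_mem hg n)
  have h3 := hxS _ (mem_zpowers (g ^ n))
  refine ⟨rp M x (i, 0), rp M x (i, Fin.last (2 ^ m)), fun h => hlast ((rp M x).injective h),
    (rp_fst_eq M hx).2 rfl, _, h3, ?_⟩
  rw [rp_mul M (by omega) hA (mul_mem hx (pow_mem hg n)) (inv_mem hx), rp_mul M (by omega) hA hx (pow_mem hg n),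
    rp_inv M (by omega) hA hx, h2, conj_swap]

theorem exists_bl {p : Pt k m} (hp : p.2 ≠ 0) : ∃ q, Bl M p q := by
  obtain ⟨p0, q0, h⟩ := exists_bl0 M hm hA p.1
  exact exists_bl_of M hm hA S.isPGroup' (MinSimple.Basic.not_dvd_relIndex S hA.TH) h hp

/-- standard vectors: constant on the pairs -/
def Std (M : SymK T H V ⊥ k m) (w : G) : Prop :=
  (∀ p q, Bl M p q → co M w p = co M w q) ∧ ∀ p : Pt k m, p.2 = 0 → co M w p = 0

/-- every vector is conjugate to a standard one -/
theorem exists_std {w : G} (hw : w ∈ V) : ∃ g ∈ P, Std M (g * w * g⁻¹) := by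
  classical
  have hT := S.isPGroup'
  have hpart : ∀ p : Pt k m, ∃ q, p.2 ≠ 0 → Bl M p q := by
    intro p
    by_cases hp : p.2 = 0
    · exact ⟨p, fun h => absurd hp h⟩
    · obtain ⟨q, hq⟩ := exists_bl M hm hA hp
      exact ⟨q, fun _ => hq⟩
  choose ν hν using hpart
  set A : Fin k → Finset (Fin (2 ^ m + 1)) := fun i => Finset.univ.filter fun x => co M w (i, x) = 1 with hAdef
  have hcard : ∀ i, ∃ r, (A i).card = 2 * r := by
    intro i
    have h1 := sum_co M hw i
    have h2 : ∑ x, co M w (i, x) = ((A i).card : ZMod 2) := by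
      rw [hAdef, Finset.card_filter, Nat.cast_sum]
      refine Finset.sum_congr rfl fun x _ => ?_
      rcases zmod_cases (co M w (i, x)) with h | h
      · rw [h, if_neg (by decide)]; rfl
      · rw [h, if_pos rfl]; rfl
    rw [h2, ZMod.natCast_eq_zero_iff] at h1
    exact h1
  have hle : ∀ i, (A i).card ≤ 2 ^ m := by
    intro i
    have h1 : (A i).card ≤ 2 ^ m + 1 := by
      have := Finset.card_le_univ (A i)
      rwa [Fintype.card_fin] at this
    obtain ⟨r, hr⟩ := hcard i
    have h2 : 2 ^ m = 2 * 2 ^ (m - 1) := by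
      rw [← pow_succ']; congr 1; omega
    omega
  have hB : ∀ i, ∃ B : Finset (Fin (2 ^ m + 1)), B.card = (A i).card ∧ 0 ∉ B ∧
      ∀ x ∈ B, (ν (i, x)).2 ∈ B := by
    intro i
    obtain ⟨r, hr⟩ := hcard i
    have hinv : ∀ x ∈ Finset.univ.erase (0 : Fin (2 ^ m + 1)), (ν (i, x)).2 ∈ Finset.univ.erase
        (0 : Fin (2 ^ m + 1)) ∧ (ν (i, (ν (i, x)).2)).2 = x ∧ (ν (i, x)).2 ≠ x := by
      intro x hx
      have hx0 : x ≠ 0 := (Finset.mem_erase.1 hx).1
      have h1 : Bl M (i, x) (ν (i, x)) := hν (i, x) hx0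
      have h2 := Bl.symm M hm hA h1
      have h3 : (ν (i, x)).2 ≠ 0 := Bl.snd M hm hA h2
      have h4 : ((i, (ν (i, x)).2) : Pt k m) = ν (i, x) := Prod.ext h1.2.1 rfl
      refine ⟨Finset.mem_erase.2 ⟨h3, Finset.mem_univ _⟩, ?_, ?_⟩
      · have h5 := hν (i, (ν (i, x)).2) h3
        rw [h4] at h5
        have h6 := Bl.unique M hm hA hT h5 h2
        change (ν (i, (ν (i, x)).2)).2 = x
        rw [h4, h6]
      · intro h5
        apply h1.1
        rw [← h4]
        exact Prod.ext rfl h5.symm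
    obtain ⟨B, hBX, hBc, hBν⟩ := exists_inv (Finset.univ.erase (0 : Fin (2 ^ m + 1))) (fun x => (ν (i, x)).2)
      hinv r (by
        rw [Finset.card_erase_of_mem (Finset.mem_univ _), Finset.card_univ, Fintype.card_fin, ← hr]
        exact hle i)
    exact ⟨B, by rw [hBc, hr], fun h => Finset.notMem_erase _ _ (hBX h), hBν⟩
  choose B hBc hB0 hBν using hB
  have hτ : ∀ i, ∃ τ : Equiv.Perm (Fin (2 ^ m + 1)), ∀ x, τ x ∈ B i ↔ x ∈ A i := by
    intro i
    have e : {x // x ∈ A i} ≃ {x // x ∈ B i} := Fintype.equivOfCardEq (by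
      rw [Fintype.card_coe, Fintype.card_coe, hBc])
    refine ⟨e.extendSubtype, fun x => ?_⟩
    by_cases hx : x ∈ A i
    · exact iff_of_true (e.extendSubtype_mem x hx) hx
    · exact iff_of_false (e.extendSubtype_not_mem x hx) hx
  choose τ hτ using hτ
  obtain ⟨g, hg, hact, -⟩ := M.lift τ
  have hgw : ∀ i x, co M (g * w * g⁻¹) (i, τ i x) = co M w (i, x) := fun i x => hact w hw i x
  have hval : ∀ i y, co M (g * w * g⁻¹) (i, y) = 1 ↔ y ∈ B i := by
    intro i y
    obtain ⟨x, rfl⟩ := (τ i).surjective y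
    rw [hgw, hτ]
    change _ ↔ x ∈ Finset.univ.filter fun x => co M w (i, x) = 1
    rw [Finset.mem_filter]
    exact ⟨fun h => ⟨Finset.mem_univ _, h⟩, fun h => h.2⟩
  have hstep : ∀ p q, Bl M p q → co M (g * w * g⁻¹) p = 1 → co M (g * w * g⁻¹) q = 1 := by
    intro p q hpq hp
    have h1 : p.2 ∈ B p.1 := (hval p.1 p.2).1 hp
    have h2 := hBν p.1 p.2 h1
    have h3 : ν p = q := Bl.unique M hm hA hT (hν p (Bl.snd M hm hA hpq)) hpq
    have h4 : q = (p.1, (ν p).2) := Prod.ext hpq.2.1.symm (by rw [h3])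
    rw [h4]
    exact (hval p.1 _).2 h2
  refine ⟨g, hg, fun p q hpq => ?_, fun p hp => ?_⟩
  · rcases zmod_cases (co M (g * w * g⁻¹) p) with h | h
    · rcases zmod_cases (co M (g * w * g⁻¹) q) with h' | h'
      · rw [h, h']
      · have := hstep q p (Bl.symm M hm hA hpq) h'
        rw [h] at this
        exact absurd this (by decide)
    · rw [h, hstep p q hpq h]
  · rcases zmod_cases (co M (g * w * g⁻¹) p) with h | h
    · exact h
    · exfalso
      have h1 : p.2 ∈ B p.1 := (hval p.1 p.2).1 h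
      rw [hp] at h1
      exact hB0 _ h1

/-! ### The transpositions are offenders -/

omit hA in
theorem swap_ne {p q : Pt k m} (h : Bl M p q) : Equiv.swap p q ≠ 1 := fun h1 => by
  have h2 := Equiv.swap_apply_left p q
  rw [h1, Equiv.Perm.one_apply] at h2
  exact h.1 h2

theorem bl_offM {p q : Pt k m} (h : Bl M p q) {t : G} (ht : t ∈ (S : Subgroup G)) (htr : rp M t = Equiv.swap p q) :
    OffM V (zpowers t) := by
  classical
  have htP := hA.TH ht
  have h2 : rp M (t * t) = 1 := by rw [rp_mul M (by omega) hA htP htP, htr, Equiv.swap_mul_self]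
  have h2' := (rp_eq_one_iff M (by omega) hA (mul_mem htP htP)).1 h2
  have hc2 : t * t ∈ centralizer (V : Set G) := mem_centralizer_iff.2 fun v hv => (h2' v hv).symm
  have hnot : t ∉ centralizer (V : Set G) := by
    intro h3
    have h4 := (rp_eq_one_iff M (by omega) hA htP).2 fun v hv => (mem_centralizer_iff.1 h3 v hv).symm
    exact swap_ne M hm h (htr.symm.trans h4)
  obtain ⟨v1, hv1, hv1e⟩ : ∃ v ∈ V, co M v p ≠ co M v q := by
    by_contra hcon
    push Not at hcon
    exact h.1 (point_ext M (by omega) hcon)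
  have hcomm : ∀ v ∈ V, t * v = v * t ↔ co M v p + co M v q = 0 := by
    intro v hv
    constructor
    · intro h3
      have h4 := co_rp M htP hv p
      rw [htr, Equiv.swap_apply_left, h3, mul_inv_cancel_right] at h4
      rw [h4, CharTwo.add_self_eq_zero]
    · intro h3
      have h3' : co M v p = co M v q := CharTwo.add_eq_zero.1 h3
      have h4 : t * v * t⁻¹ = v := by
        refine ext_co M (hA.conj_mem htP hv) hv fun r => ?_
        obtain ⟨r', rfl⟩ := (rp M t).surjective r
        rw [co_rp M htP hv, htr]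
        by_cases hr : r' = p
        · rw [hr, Equiv.swap_apply_left, h3']
        · by_cases hr' : r' = q
          · rw [hr', Equiv.swap_apply_right, h3']
          · rw [Equiv.swap_apply_of_ne_of_ne hr hr']
      rwa [mul_inv_eq_iff_eq_mul] at h4
  have hsq : ∀ a ∈ zpowers t, a ^ 2 ∈ centralizer (V : Set G) := by
    rintro a ⟨j, rfl⟩
    have e : (t ^ j) ^ 2 = (t * t) ^ j := by
      rw [← pow_two, ← zpow_natCast, ← zpow_mul, ← zpow_natCast t 2, ← zpow_mul, mul_comm]
    change (t ^ j) ^ 2 ∈ _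
    rw [e]
    exact zpow_mem hc2 j
  refine ⟨⟨hsq, ?_⟩, fun h3 => hnot (h3 (mem_zpowers t)), ?_⟩
  · rintro a ⟨i, rfl⟩ b ⟨j, rfl⟩
    have e : t ^ i * t ^ j * (t ^ i)⁻¹ * (t ^ j)⁻¹ = 1 := by
      rw [← zpow_add, add_comm, zpow_add]
      group
    change t ^ i * t ^ j * (t ^ i)⁻¹ * (t ^ j)⁻¹ ∈ _
    rw [e]
    exact one_mem _
  · have : Fact (Nat.Prime 2) := ⟨Nat.prime_two⟩
    have hcz : ∀ v ∈ V, (v ∈ centralizer (zpowers t : Set G) ↔ t * v = v * t) := by
      intro v _
      rw [mem_centralizer_iff]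
      constructor
      · intro h3
        exact h3 t (mem_zpowers t)
      · rintro h3 _ ⟨j, rfl⟩
        exact (Commute.zpow_left (show Commute t v from h3) j).eq
    have h5 : Nat.card V = Nat.card ↥(V ⊓ centralizer (zpowers t : Set G)) * Nat.card (ZMod 2) := by
      refine card_of_map inf_le_left (fun v => co M v p + co M v q) ?_ ?_ ?_
      · intro v hv w hw
        change co M (v * w) p + co M (v * w) q = _
        rw [co_mul M hv hw, co_mul M hv hw]
        ring
      · intro c
        rcases zmod_cases c with rfl | rfl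
        · exact ⟨1, one_mem V, by rw [co_one, co_one, add_zero]⟩
        · refine ⟨v1, hv1, ?_⟩
          rw [← zmod_ne]
          intro h6
          exact hv1e (CharTwo.add_eq_zero.1 h6)
      · intro v hv
        rw [← hcomm v hv, ← hcz v hv]
        exact ⟨fun h6 => ⟨hv, h6⟩, fun h6 => h6.2⟩
    have h6 := card_mul_relIndex (H := zpowers t ⊓ centralizer (V : Set G)) (K := zpowers t) inf_le_left
    have h7 : 2 ≤ (zpowers t ⊓ centralizer (V : Set G)).relIndex (zpowers t) := by
      have h8 : (zpowers t ⊓ centralizer (V : Set G)).relIndex (zpowers t) ≠ 1 := by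
        intro h9
        rw [relIndex_eq_one] at h9
        exact hnot (h9 (mem_zpowers t)).2
      have h9 : (zpowers t ⊓ centralizer (V : Set G)).relIndex (zpowers t) ≠ 0 := by
        intro h9
        rw [h9, mul_zero] at h6
        exact Nat.card_pos.ne h6
      omega
    rw [h5, Nat.card_zmod, ← h6]
    calc Nat.card ↥(V ⊓ centralizer (zpowers t : Set G)) * 2 * Nat.card ↥(zpowers t ⊓ centralizer (V : Set G))
        ≤ Nat.card ↥(V ⊓ centralizer (zpowers t : Set G)) *
          (zpowers t ⊓ centralizer (V : Set G)).relIndex (zpowers t) *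
            Nat.card ↥(zpowers t ⊓ centralizer (V : Set G)) :=
          Nat.mul_le_mul_right _ (Nat.mul_le_mul_left _ h7)
      _ = _ := by ring

/-- an element of `⟨t⟩` which acts nontrivially acts as `t`, if `t²` centralises `V`. -/
theorem rp_zpowers {t b : G} (ht : t ∈ (S : Subgroup G)) (h2 : ∀ v ∈ V, t * t * v = v * (t * t))
    (hb : b ∈ zpowers t) : rp M b = 1 ∨ rp M b = rp M t := by
  have htP := hA.TH ht
  have h3 : rp M t * rp M t = 1 := by
    rw [← rp_mul M (by omega) hA htP htP]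
    exact (rp_eq_one_iff M (by omega) hA (mul_mem htP htP)).2 h2
  rw [← mem_powers_iff_mem_zpowers] at hb
  obtain ⟨j, rfl⟩ := hb
  change rp M (t ^ j) = 1 ∨ rp M (t ^ j) = rp M t
  rw [rp_pow M (by omega) hA htP]
  rcases Nat.even_or_odd' j with ⟨c, rfl | rfl⟩
  · left
    rw [pow_mul, pow_two, h3, one_pow]
  · right
    rw [pow_succ, pow_mul, pow_two, h3, one_pow, one_mul]

theorem std_comm {w : G} (hw : w ∈ V) (hstd : Std M w) {p q : Pt k m} (h : Bl M p q) {t : G}
    (ht : t ∈ (S : Subgroup G)) (htr : rp M t = Equiv.swap p q) : t * w = w * t := by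
  classical
  have htP := hA.TH ht
  have h4 : t * w * t⁻¹ = w := by
    refine ext_co M (hA.conj_mem htP hw) hw fun r => ?_
    obtain ⟨r', rfl⟩ := (rp M t).surjective r
    rw [co_rp M htP hw, htr]
    by_cases hr : r' = p
    · rw [hr, Equiv.swap_apply_left, hstd.1 p q h]
    · by_cases hr' : r' = q
      · rw [hr', Equiv.swap_apply_right, hstd.1 p q h]
      · rw [Equiv.swap_apply_of_ne_of_ne hr hr']
  rwa [mul_inv_eq_iff_eq_mul] at h4

end sylow

/-- **(6), even-subset modules.** -/
theorem fus [Finite G] {S : Sylow 2 G} {P : Subgroup G} (M : SymKM (S : Subgroup G) P V ⊥ k m) (hm : 2 ≤ m)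
    (hA : Amb (S : Subgroup G) P V) {z x : G} (hz : z ∈ zc (S : Subgroup G)) (hz1 : z ≠ 1)
    (hx : x ∈ normalizer (V : Set G)) : ∃ l ∈ P, x * z * x⁻¹ = l * z * l⁻¹ := by
  classical
  have hzV : z ∈ V := hA.zc hz
  have hPN : P ≤ normalizer (V : Set G) := hA.HV
  have hT := S.isPGroup'
  have hTH := MinSimple.Basic.not_dvd_relIndex S hA.TH
  have hconj : ∀ n ∈ normalizer (V : Set G), ∀ v ∈ V, n * v * n⁻¹ ∈ V := fun n hn v hv =>
    (mem_normalizer_iff.1 hn v).1 hv
  obtain ⟨g, hg, hgl⟩ := exists_std M.toSymK hm hA (hconj x hx z hzV)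
  have hgm : g * x ∈ normalizer (V : Set G) := mul_mem (hPN hg) hx
  obtain ⟨n, hn, hnz, hnS⟩ := exists_conj_fix S (hA.TH.trans hPN) (fun s hs => (mem_zc.1 hz).2.1 s hs) hgm
  set w := g * x * z * (g * x)⁻¹ with hw
  have hwV : w ∈ V := hconj _ hgm z hzV
  have hstd : Std M.toSymK w := by
    have e : w = g * (x * z * x⁻¹) * g⁻¹ := by rw [hw]; group
    rw [e]
    exact hgl
  have hn' : n⁻¹ ∈ normalizer (V : Set G) := inv_mem hn
  set c : G → G := fun v => n⁻¹ * v * n with hc
  have hcV : ∀ v ∈ V, c v ∈ V := fun v hv => by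
    have := hconj n⁻¹ hn' v hv
    rwa [inv_inv] at this
  have hcmul : ∀ a b, c (a * b) = c a * c b := fun a b => by simp only [hc]; group
  have hcinv : ∀ a, c a⁻¹ = (c a)⁻¹ := fun a => by simp only [hc]; group
  have hcinj : Function.Injective c := fun a b h => by
    have h1 := congrArg (fun y => n * y * n⁻¹) h
    simpa [hc, mul_assoc] using h1
  have hzw : z = c w := by
    simp only [hc]
    rw [← hnz]; group
  -- the transposition
  have hswap : ∀ p q, Bl M.toSymK p q → ∀ t ∈ (S : Subgroup G), rp M.toSymK t = Equiv.swap p q →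
      ∃ p' q', Bl M.toSymK p' q' ∧ c t ∈ (S : Subgroup G) ∧ rp M.toSymK (c t) = Equiv.swap p' q' := by
    intro p q h t ht htr
    have htS : c t ∈ (S : Subgroup G) := hnS t ht (std_comm M.toSymK hm hA hwV hstd h ht htr)
    have htP := hA.TH htS
    have hoff := bl_offM M.toSymK hm hA h ht htr
    have hBm : ∀ y, y ∈ zpowers (c t) ↔ n * y * n⁻¹ ∈ zpowers t := by
      intro y
      have hpow : ∀ j : ℤ, c t ^ j = c (t ^ j) := fun j => by
        have h1 := map_zpow (MulAut.conj n⁻¹).toMonoidHom t j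
        simp only [hc]
        have h2 : ∀ a : G, (MulAut.conj n⁻¹).toMonoidHom a = n⁻¹ * a * n := fun a => by
          change n⁻¹ * a * n⁻¹⁻¹ = _
          rw [inv_inv]
        rw [h2, h2] at h1
        exact h1.symm
      constructor
      · rintro ⟨j, rfl⟩
        refine ⟨j, ?_⟩
        change t ^ j = n * (c t) ^ j * n⁻¹
        rw [hpow]
        simp only [hc]
        group
      · rintro ⟨j, hj⟩
        refine ⟨j, ?_⟩
        change (c t) ^ j = y
        have hj' : t ^ j = n * y * n⁻¹ := hj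
        rw [hpow, hj']
        simp only [hc]
        group
    have hoff' := offM_conj hn hoff hBm
    obtain ⟨-, hof⟩ := M.offM _ (by rw [zpowers_le]; exact htS) hoff'
    obtain ⟨τ, hτ, hτ2⟩ := hof (c t) (mem_zpowers _)
    have hne : ∃ i y, τ i y ≠ y := by
      by_contra hcon
      push Not at hcon
      apply hoff'.ne
      rw [zpowers_le, mem_centralizer_iff]
      intro v hv
      have h1 : c t * v * (c t)⁻¹ = v := by
        refine ext_co M.toSymK (hA.conj_mem htP hv) hv fun r => ?_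
        have h2 := hτ v hv r.1 r.2
        rw [hcon r.1 r.2] at h2
        exact h2
      rw [mul_inv_eq_iff_eq_mul] at h1
      exact h1.symm
    obtain ⟨i, y, hy⟩ := hne
    obtain ⟨-, b, hb, hbact⟩ := hτ2 i y hy
    have hbP : b ∈ P := by
      have : zpowers (c t) ≤ P := by rw [zpowers_le]; exact htP
      exact this hb
    have hbr : rp M.toSymK b = Equiv.swap ((i, y) : Pt k m) (i, τ i y) := by
      refine rp_eq M.toSymK (by omega) hA.HV hbP fun v hv r => ?_
      have h2 := hbact v hv r.1 r.2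
      rw [Equiv.Perm.one_apply] at h2
      have h3 : Equiv.swap ((i, y) : Pt k m) (i, τ i y) r = (r.1, Function.update
          (1 : Fin k → Equiv.Perm (Fin (2 ^ m + 1))) i (Equiv.swap y (τ i y)) r.1 r.2) := by
        by_cases hr : r.1 = i
        · rw [hr, Function.update_self]
          by_cases ha : r.2 = y
          · have : r = (i, y) := Prod.ext hr ha
            rw [this, Equiv.swap_apply_left, Equiv.swap_apply_left]
          · by_cases hb : r.2 = τ i y
            · have : r = (i, τ i y) := Prod.ext hr hb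
              rw [this, Equiv.swap_apply_right, Equiv.swap_apply_right]
            · rw [Equiv.swap_apply_of_ne_of_ne ha hb, Equiv.swap_apply_of_ne_of_ne
                (fun h => ha (congrArg Prod.snd h)) fun h => hb (congrArg Prod.snd h), ← hr]
        · rw [Function.update_of_ne hr, Equiv.swap_apply_of_ne_of_ne (fun h => hr (congrArg Prod.fst h))
            fun h => hr (congrArg Prod.fst h)]
          rfl
      unfold co
      rw [h3]
      exact h2
    have hsq : ∀ v ∈ V, c t * c t * v = v * (c t * c t) := by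
      intro v hv
      have h1 := hoff'.sq (c t) (mem_zpowers _)
      rw [pow_two] at h1
      exact (mem_centralizer_iff.1 h1 v hv).symm
    have hyne : ((i, y) : Pt k m) ≠ (i, τ i y) := fun h => hy (congrArg Prod.snd h).symm
    have hbt : rp M.toSymK (c t) = Equiv.swap ((i, y) : Pt k m) (i, τ i y) := by
      rcases rp_zpowers M.toSymK hm hA htS hsq hb with h1 | h1
      · exfalso
        rw [hbr] at h1
        have h2 := Equiv.swap_apply_left ((i, y) : Pt k m) (i, τ i y)
        rw [h1, Equiv.Perm.one_apply] at h2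
        exact hyne h2
      · rw [← h1, hbr]
    exact ⟨(i, y), (i, τ i y), ⟨hyne, rfl, c t, htS, hbt⟩, htS, hbt⟩
  -- the commutator with a transposition
  have hcommr : ∀ p q : Pt k m, ∀ t ∈ (S : Subgroup G), rp M.toSymK t = Equiv.swap p q → ∀ v ∈ V, ∀ r,
      co M.toSymK (t * v * t⁻¹ * v⁻¹) r = if r = p ∨ r = q then co M.toSymK v p + co M.toSymK v q else 0 := by
    intro p q t ht htr v hv r
    have htP := hA.TH ht
    rw [co_mul M.toSymK (hA.conj_mem htP hv) (inv_mem hv), co_inv M.toSymK hv]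
    obtain ⟨r', rfl⟩ := (rp M.toSymK t).surjective r
    rw [co_rp M.toSymK htP hv, htr]
    by_cases hr : r' = p
    · rw [hr, Equiv.swap_apply_left, if_pos (Or.inr rfl)]
    · by_cases hr' : r' = q
      · rw [hr', Equiv.swap_apply_right, if_pos (Or.inl rfl), add_comm]
      · rw [Equiv.swap_apply_of_ne_of_ne hr hr', if_neg (not_or.2 ⟨hr, hr'⟩), CharTwo.add_self_eq_zero]
  -- the pairs
  have hpair : ∀ p q u, Bl M.toSymK p q → Pr M.toSymK p q u →
      ∃ p' q', Bl M.toSymK p' q' ∧ Pr M.toSymK p' q' (c u) := by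
    intro p q u h hu
    obtain ⟨t, ht, htr⟩ := h.2.2
    obtain ⟨p', q', h', htS, htr'⟩ := hswap p q h t ht htr
    obtain ⟨v, hv, hve⟩ : ∃ v ∈ V, co M.toSymK v p ≠ co M.toSymK v q := by
      by_contra hcon
      push Not at hcon
      exact h.1 (point_ext M.toSymK (by omega) hcon)
    have htP := hA.TH ht
    have h1 : u = t * v * t⁻¹ * v⁻¹ := by
      refine ext_co M.toSymK hu.1 (mul_mem (hA.conj_mem htP hv) (inv_mem hv)) fun r => ?_
      rw [hu.2, hcommr p q t ht htr v hv r]
      have h3 : co M.toSymK v p + co M.toSymK v q = 1 := by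
        rw [← zmod_ne]
        intro h6
        exact hve (CharTwo.add_eq_zero.1 h6)
      rw [h3]
    have h2 : c u = c t * c v * (c t)⁻¹ * (c v)⁻¹ := by
      rw [h1, hcmul, hcmul, hcmul, hcinv, hcinv]
    refine ⟨p', q', h', hcV u hu.1, fun r => ?_⟩
    have h3 := hcommr p' q' (c t) htS htr' (c v) (hcV v hv)
    rw [← h2] at h3
    rw [h3 r]
    have h4 : co M.toSymK (c v) p' + co M.toSymK (c v) q' = 1 := by
      rw [← zmod_ne]
      intro h6
      have h7 : c u = 1 := by
        refine eq_one_of_co M.toSymK (hcV u hu.1) fun r => ?_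
        rw [h3 r, h6, ite_self]
      have h8 : u = 1 := hcinj (by rw [h7]; simp [hc])
      have h9 := hu.2 p
      rw [h8, co_one, if_pos (Or.inl rfl)] at h9
      exact zero_ne_one h9
    rw [h4]
  -- the supports
  have hsupp : ∀ N : ℕ, ∀ v ∈ V, (Finset.univ.filter fun p => co M.toSymK v p ≠ 0).card = N → Std M.toSymK v →
      ∀ r, co M.toSymK (c v) r ≠ 0 → ∃ p q u, Bl M.toSymK p q ∧ Pr M.toSymK p q u ∧ co M.toSymK v p ≠ 0 ∧
        co M.toSymK (c u) r ≠ 0 := by
    intro N
    induction N using Nat.strong_induction_on with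
    | _ N ih =>
      intro v hv hN hs r hr
      have hex : ∃ p, co M.toSymK v p ≠ 0 := by
        by_contra hcon
        push Not at hcon
        apply hr
        have h1 : v = 1 := eq_one_of_co M.toSymK hv hcon
        have h2 : c v = 1 := by rw [h1]; simp [hc]
        rw [h2, co_one]
      obtain ⟨p, hp⟩ := hex
      have hp2 : p.2 ≠ 0 := fun h => hp (hs.2 p h)
      obtain ⟨q, hq⟩ := exists_bl M.toSymK hm hA hp2
      obtain ⟨u, hu, hue⟩ := exists_pair M.toSymK hq.2.1 hq.1
      have hu' : Pr M.toSymK p q u := ⟨hu, hue⟩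
      by_cases h1 : co M.toSymK (c u) r = 0
      · set v' := v * u⁻¹ with hv'
        have hv'V : v' ∈ V := mul_mem hv (inv_mem hu)
        have hco : ∀ r, co M.toSymK v' r = co M.toSymK v r + co M.toSymK u r := fun r => by
          rw [hv', co_mul M.toSymK hv (inv_mem hu), co_inv M.toSymK hu]
        have hpv : co M.toSymK v p = 1 := (zmod_ne _).1 hp
        have hqv : co M.toSymK v q = 1 := by rw [← hs.1 p q hq]; exact hpv
        have hcp : co M.toSymK v' p = 0 := by
          rw [hco, hue, if_pos (Or.inl rfl), hpv]; decide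
        have hcq : co M.toSymK v' q = 0 := by
          rw [hco, hue, if_pos (Or.inr rfl), hqv]; decide
        have hcr : ∀ r, r ≠ p → r ≠ q → co M.toSymK v' r = co M.toSymK v r := fun r h1 h2 => by
          rw [hco, hue, if_neg (not_or.2 ⟨h1, h2⟩), add_zero]
        have hs' : Std M.toSymK v' := by
          refine ⟨fun a b hab => ?_, fun a ha => ?_⟩
          · by_cases ha : a = p
            · subst ha
              have hb : b = q := Bl.unique M.toSymK hm hA hT hab hq
              rw [hb, hcp, hcq]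
            · by_cases ha' : a = q
              · subst ha'
                have hb : b = p := Bl.unique M.toSymK hm hA hT hab (Bl.symm M.toSymK hm hA hq)
                rw [hb, hcp, hcq]
              · have hb : b ≠ p := by
                  rintro rfl
                  exact ha' (Bl.unique M.toSymK hm hA hT (Bl.symm M.toSymK hm hA hab) hq)
                have hb' : b ≠ q := by
                  rintro rfl
                  exact ha (Bl.unique M.toSymK hm hA hT (Bl.symm M.toSymK hm hA hab)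
                    (Bl.symm M.toSymK hm hA hq))
                rw [hcr a ha ha', hcr b hb hb', hs.1 a b hab]
          · have ha1 : a ≠ p := fun h => hp2 (h ▸ ha)
            have ha2 : a ≠ q := fun h => Bl.snd M.toSymK hm hA (Bl.symm M.toSymK hm hA hq) (h ▸ ha)
            rw [hcr a ha1 ha2, hs.2 a ha]
        have hlt : (Finset.univ.filter fun p => co M.toSymK v' p ≠ 0).card < N := by
          rw [← hN]
          refine Finset.card_lt_card ⟨fun a ha => ?_, fun h => ?_⟩
          · rw [Finset.mem_filter] at ha ⊢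
            refine ⟨Finset.mem_univ _, fun h0 => ha.2 ?_⟩
            have ha1 : a ≠ p := fun h => hp (h ▸ h0)
            by_cases ha2 : a = q
            · rw [ha2, hcq]
            · rw [hcr a ha1 ha2, h0]
          · have h3 := h (Finset.mem_filter.2 ⟨Finset.mem_univ p, hp⟩)
            rw [Finset.mem_filter] at h3
            exact h3.2 hcp
        have hcv : c v = c v' * c u := by rw [← hcmul, hv', inv_mul_cancel_right]
        have hr' : co M.toSymK (c v') r ≠ 0 := by
          intro h0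
          apply hr
          rw [hcv, co_mul M.toSymK (hcV v' hv'V) (hcV u hu), h0, h1, add_zero]
        obtain ⟨a, b, u2, hab, hu2, hva, h4⟩ := ih _ hlt v' hv'V rfl hs' r hr'
        refine ⟨a, b, u2, hab, hu2, fun h0 => hva ?_, h4⟩
        have ha1 : a ≠ p := fun h => hp (h ▸ h0)
        by_cases ha2 : a = q
        · rw [ha2, hcq]
        · rw [hcr a ha1 ha2, h0]
      · exact ⟨p, q, u, hq, hu', hp, h1⟩
  -- `z` is the full vector
  obtain ⟨hzc1, hzc2⟩ := zc_co M.toSymK (by omega) hA hT hTH hz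
  have hzfull : ∀ p : Pt k m, p.2 ≠ 0 → co M.toSymK z p = 1 := by
    intro p hp
    rw [← zmod_ne]
    intro h0
    apply hz1
    refine eq_one_of_co M.toSymK hzV fun r => ?_
    by_cases hr : r.2 = 0
    · exact hzc2 r hr
    · rw [hzc1 r p hr hp, h0]
  -- counting
  set D : Set G := {u | ∃ p q, Bl M.toSymK p q ∧ Pr M.toSymK p q u} with hD
  set Dw : Set G := {u | ∃ p q, Bl M.toSymK p q ∧ Pr M.toSymK p q u ∧ co M.toSymK w p ≠ 0} with hDw
  have hsub : Dw ⊆ D := by
    rintro u ⟨p, q, h1, h2, -⟩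
    exact ⟨p, q, h1, h2⟩
  have himg : D ⊆ c '' Dw := by
    rintro u' ⟨p', q', h1, h2⟩
    have h3 : co M.toSymK (c w) p' ≠ 0 := by
      rw [← hzw, zmod_ne]
      exact hzfull p' (Bl.snd M.toSymK hm hA h1)
    obtain ⟨p, q, u, h4, h5, h6, h7⟩ := hsupp _ w hwV rfl hstd p' h3
    obtain ⟨a, b, hab, hcu⟩ := hpair p q u h4 h5
    refine ⟨u, ⟨p, q, h4, h5, h6⟩, ?_⟩
    rw [hcu.2] at h7
    have h8 : p' = a ∨ p' = b := by
      by_contra hcon
      rw [if_neg hcon] at h7
      exact h7 rfl
    rcases h8 with rfl | rfl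
    · have h9 := Bl.unique M.toSymK hm hA hT h1 hab
      subst h9
      exact Pr.unique M.toSymK hm hA hcu h2
    · have h9 := Bl.unique M.toSymK hm hA hT h1 (Bl.symm M.toSymK hm hA hab)
      subst h9
      exact Pr.unique M.toSymK hm hA (Pr.symm M.toSymK hm hA hcu) h2
  have hDfin : D.Finite := Set.toFinite D
  have heq : Dw = D := by
    refine Set.eq_of_subset_of_ncard_le hsub ?_ hDfin
    calc D.ncard ≤ (c '' Dw).ncard := Set.ncard_le_ncard himg (Set.toFinite _)
      _ ≤ Dw.ncard := Set.ncard_image_le (Set.toFinite _)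
  have hwfull : ∀ p : Pt k m, p.2 ≠ 0 → co M.toSymK w p = 1 := by
    intro p hp
    obtain ⟨q, hq⟩ := exists_bl M.toSymK hm hA hp
    obtain ⟨u, hu, hue⟩ := exists_pair M.toSymK hq.2.1 hq.1
    have h1 : u ∈ Dw := by rw [heq]; exact ⟨p, q, hq, hu, hue⟩
    obtain ⟨a, b, hab, hu2, ha⟩ := h1
    have h2 : p = a ∨ p = b := by
      by_contra hcon
      have h3 := hu2.2 p
      rw [hue, if_pos (Or.inl rfl), if_neg hcon] at h3
      exact one_ne_zero h3
    rcases h2 with rfl | rfl
    · exact (zmod_ne _).1 ha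
    · rw [← hstd.1 _ _ hab]
      exact (zmod_ne _).1 ha
  have hwz : w = z := by
    refine ext_co M.toSymK hwV hzV fun p => ?_
    by_cases hp : p.2 = 0
    · rw [hstd.2 p hp, hzc2 p hp]
    · rw [hwfull p hp, hzfull p hp]
  refine ⟨g⁻¹, inv_mem hg, ?_⟩
  calc x * z * x⁻¹ = g⁻¹ * w * g := by rw [hw]; group
    _ = g⁻¹ * z * g⁻¹⁻¹ := by rw [hwz, inv_inv]

end Cfsg.Agent.Omega.NOThreeL.VF.Sym
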