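import Cfsg.Agent.Omega.NOThreeL.VF.Split

/-!
# THEOREM VF, (2)-(5) for a sum of even subset modules of `S_{2^m+1}`
-/

set_option autoImplicit false

namespace Cfsg.Agent.Omega.NOThreeL.VF.Q.S

open Subgroup Cfsg Cfsg.Agent.Omega.FFThm Cfsg.Agent.ZN

universe u

/-! ### Even functions on `2^m + 1` points -/

theorem z2_add_self (x : ZMod 2) : x + x = 0 := CharTwo.add_self_eq_zero x

theorem z2_neg (x : ZMod 2) : -x = x := CharTwo.neg_eq x

/-- An even constant function on `2 ^ m + 1` points is zero. -/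
theorem const_eq_zero {m : ℕ} (hm : 1 ≤ m) {y : Fin (2 ^ m + 1) → ZMod 2} (h : ∑ x, y x = 0)
    (hc : ∀ x, y x = y 0) : y = 0 := by
  have h1 : ∑ x, y x = y 0 := by
    rw [Finset.sum_congr rfl fun x _ => hc x, Finset.sum_const, Finset.card_univ, Fintype.card_fin,
      nsmul_eq_mul]
    have h2 : ((2 ^ m + 1 : ℕ) : ZMod 2) = 1 := by
      obtain ⟨c, rfl⟩ := Nat.exists_eq_add_of_le hm
      rw [pow_add, pow_one]
      push_cast
      rw [show (2 : ZMod 2) = 0 from rfl, zero_mul, zero_add]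
    rw [h2, one_mul]
  rw [h] at h1
  funext x
  rw [hc x, ← h1]; rfl

/-- There is an even function with prescribed differences. -/
theorem exists_even {m : ℕ} (hm : 1 ≤ m) (d : Fin (2 ^ m) → ZMod 2) :
    ∃ y : Fin (2 ^ m + 1) → ZMod 2, ∑ x, y x = 0 ∧ ∀ j : Fin (2 ^ m), y j.castSucc + y j.succ = d j := by
  have h1 : ∀ j : Fin (2 ^ m), Fin.partialSum d j.castSucc + Fin.partialSum d j.succ = d j := by
    intro j
    rw [Fin.partialSum_succ, ← add_assoc, z2_add_self, zero_add]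
  by_cases h : ∑ x, Fin.partialSum d x = 0
  · exact ⟨_, h, h1⟩
  · refine ⟨fun x => Fin.partialSum d x + 1, ?_, fun j => ?_⟩
    · rw [Finset.sum_add_distrib, Finset.sum_const, Finset.card_univ, Fintype.card_fin, nsmul_eq_mul]
      have h2 : ((2 ^ m + 1 : ℕ) : ZMod 2) = 1 := by
        obtain ⟨c, rfl⟩ := Nat.exists_eq_add_of_le hm
        rw [pow_add, pow_one]
        push_cast
        rw [show (2 : ZMod 2) = 0 from rfl, zero_mul, zero_add]
      rw [h2, mul_one]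
      generalize ∑ x, Fin.partialSum d x = s at h ⊢
      revert h
      revert s
      decide
    · have h2 := h1 j
      have h3 : (1 : ZMod 2) + 1 = 0 := z2_add_self 1
      linear_combination h2 + h3

/-! ### Composition of `ActsSym` -/

section comp

variable {G : Type u} [Group G] {k n : ℕ} {e : G → Fin k → Fin n → ZMod 2} {V H : Subgroup G}

theorem acts_one : ActsSym e V 1 1 1 := by
  intro v _ i x
  rw [one_mul, inv_one, mul_one]; rfl

theorem acts_mul (hn : ∀ h ∈ H, ∀ v ∈ V, h * v * h⁻¹ ∈ V) {g g' : G} (hg' : g' ∈ H)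
    {σ σ' : Equiv.Perm (Fin k)} {τ τ' : Fin k → Equiv.Perm (Fin n)} (h : ActsSym e V g σ τ)
    (h' : ActsSym e V g' σ' τ') :
    ActsSym e V (g * g') (σ * σ') (fun i => τ (σ' i) * τ' i) := by
  intro v hv i x
  have e1 : g * g' * v * (g * g')⁻¹ = g * (g' * v * g'⁻¹) * g⁻¹ := by group
  rw [e1]
  show e _ (σ (σ' i)) (τ (σ' i) (τ' i x)) = e v i x
  rw [h _ (hn g' hg' v hv), h' v hv]

theorem acts_inv (hn : ∀ h ∈ H, ∀ v ∈ V, h * v * h⁻¹ ∈ V) {g : G} (hg : g ∈ H)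
    {σ : Equiv.Perm (Fin k)} {τ : Fin k → Equiv.Perm (Fin n)} (h : ActsSym e V g σ τ) :
    ActsSym e V g⁻¹ σ⁻¹ (fun i => (τ (σ⁻¹ i))⁻¹) := by
  intro v hv i x
  have h1 := h (g⁻¹ * v * g⁻¹⁻¹) (hn _ (inv_mem hg) v hv) (σ⁻¹ i) ((τ (σ⁻¹ i))⁻¹ x)
  have e1 : g * (g⁻¹ * v * g⁻¹⁻¹) * g⁻¹ = v := by group
  rw [e1, show σ (σ⁻¹ i) = i from σ.apply_symm_apply i,
    show τ (σ⁻¹ i) ((τ (σ⁻¹ i))⁻¹ x) = x from (τ (σ⁻¹ i)).apply_symm_apply x] at h1
  exact h1.symm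

theorem acts_mul1 (hn : ∀ h ∈ H, ∀ v ∈ V, h * v * h⁻¹ ∈ V) {g g' : G} (hg' : g' ∈ H)
    {τ τ' : Fin k → Equiv.Perm (Fin n)} (h : ActsSym e V g 1 τ) (h' : ActsSym e V g' 1 τ') :
    ActsSym e V (g * g') 1 (τ * τ') := by
  have := acts_mul hn hg' h h'
  rwa [mul_one] at this

theorem acts_inv1 (hn : ∀ h ∈ H, ∀ v ∈ V, h * v * h⁻¹ ∈ V) {g : G} (hg : g ∈ H)
    {τ : Fin k → Equiv.Perm (Fin n)} (h : ActsSym e V g 1 τ) : ActsSym e V g⁻¹ 1 τ⁻¹ := by
  have := acts_inv hn hg h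
  rwa [inv_one] at this

/-- Conjugation of an element without permutation of the factors. -/
theorem acts_conj (hn : ∀ h ∈ H, ∀ v ∈ V, h * v * h⁻¹ ∈ V) {g h : G} (hg : g ∈ H) (hh : h ∈ H)
    {σ : Equiv.Perm (Fin k)} {τ ρ : Fin k → Equiv.Perm (Fin n)} (h1 : ActsSym e V g σ τ)
    (h2 : ActsSym e V h 1 ρ) :
    ActsSym e V (g * h * g⁻¹) 1 (fun i => τ (σ⁻¹ i) * ρ (σ⁻¹ i) * (τ (σ⁻¹ i))⁻¹) := by
  have h3 := acts_mul hn (inv_mem hg) (acts_mul hn hh h1 h2) (acts_inv hn hg h1)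
  rw [mul_one, mul_inv_cancel] at h3
  exact h3

end comp

/-! ### Coordinates -/

section coord

variable {G : Type u} [Group G] {T P : Subgroup G} {k m : ℕ} (M : SymK T P (zl T P) ⊥ k m)

theorem hn : ∀ h ∈ P, ∀ v ∈ zl T P, h * v * h⁻¹ ∈ zl T P := fun _ hh _ hv =>
  (mem_normalizer_iff.1 (Cfsg.Agent.ZN.le_normalizer_zl T P hh) _).1 hv

theorem hn' {h v : G} (hh : h ∈ P) (hv : v ∈ zl T P) : h⁻¹ * v * h ∈ zl T P := by
  have := hn _ (inv_mem hh) _ hv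
  rwa [inv_inv] at this

include M in
theorem e_one : M.e 1 = 0 := by
  have := M.mul 1 (one_mem _) 1 (one_mem _)
  rw [mul_one] at this
  exact left_eq_add.1 this

theorem e_inv {v : G} (hv : v ∈ zl T P) : M.e v⁻¹ = M.e v := by
  have := M.mul v⁻¹ (inv_mem hv) v hv
  rw [inv_mul_cancel, e_one] at this
  rw [eq_neg_of_add_eq_zero_left this.symm]
  funext i x
  exact z2_neg _

theorem e_eq_zero {v : G} (hv : v ∈ zl T P) : M.e v = 0 ↔ v = 1 := by
  rw [M.ker v hv, mem_bot]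

theorem e_inj {v w : G} (hv : v ∈ zl T P) (hw : w ∈ zl T P) (h : M.e v = M.e w) : v = w := by
  have h1 : M.e (v * w⁻¹) = 0 := by
    rw [M.mul v hv _ (inv_mem hw), e_inv M hw, h]
    funext i x
    exact z2_add_self _
  exact mul_inv_eq_one.1 ((e_eq_zero M (mul_mem hv (inv_mem hw))).1 h1)

variable {M}

theorem k_mem {g v : G} (hg : g ∈ P) (hv : v ∈ zl T P) : Q.k g v ∈ zl T P :=
  mul_mem (hn _ hg _ hv) (inv_mem hv)

/-- The coordinates of `[g, v]`. -/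
theorem e_k {g v : G} (hg : g ∈ P) (hv : v ∈ zl T P) {τ : Fin k → Equiv.Perm (Fin (2 ^ m + 1))}
    (hA : ActsSym M.e (zl T P) g 1 τ) (i : Fin k) (x : Fin (2 ^ m + 1)) :
    M.e (Q.k g v) i (τ i x) = M.e v i x + M.e v i (τ i x) := by
  rw [k_def, M.mul _ (hn _ hg _ hv) _ (inv_mem hv), e_inv M hv]
  exact congrArg (· + M.e v i (τ i x)) (hA v hv i x)

theorem k_eq_one_iff {g v : G} (hg : g ∈ P) (hv : v ∈ zl T P) {τ : Fin k → Equiv.Perm (Fin (2 ^ m + 1))}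
    (hA : ActsSym M.e (zl T P) g 1 τ) : Q.k g v = 1 ↔ ∀ i x, M.e v i (τ i x) = M.e v i x := by
  rw [← e_eq_zero M (k_mem hg hv)]
  constructor
  · intro h i x
    have h1 := e_k hg hv hA i x
    rw [h] at h1
    have h2 : M.e v i x + M.e v i (τ i x) = 0 := h1.symm
    rw [eq_neg_of_add_eq_zero_left h2, z2_neg]
  · intro h
    funext i y
    obtain ⟨x, rfl⟩ := (τ i).surjective y
    rw [e_k hg hv hA, h i x, z2_add_self]
    rfl

/-- Two elements with the same action on `V` differ by an element of `C(V)`. -/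
theorem mem_cent_of_acts {g h : G} (hg : g ∈ P) (hh : h ∈ P) {τ : Fin k → Equiv.Perm (Fin (2 ^ m + 1))}
    (hA : ActsSym M.e (zl T P) g 1 τ) (hB : ActsSym M.e (zl T P) h 1 τ) {v : G} (hv : v ∈ zl T P) :
    Q.k (g⁻¹ * h) v = 1 := by
  rw [k_eq_one_iff (mul_mem (inv_mem hg) hh) hv (acts_mul1 hn hh (acts_inv1 hn hg hA) hB)]
  intro i x
  rw [Pi.mul_apply, Pi.inv_apply, inv_mul_cancel, Equiv.Perm.one_apply]

/-- The permutations of one factor. -/
abbrev upd (i₀ : Fin k) (ρ : Equiv.Perm (Fin (2 ^ m + 1))) : Fin k → Equiv.Perm (Fin (2 ^ m + 1)) :=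
  Function.update 1 i₀ ρ

theorem upd_self {i₀ : Fin k} {ρ : Equiv.Perm (Fin (2 ^ m + 1))} : upd i₀ ρ i₀ = ρ :=
  Function.update_self _ _ _

theorem upd_ne {i₀ i : Fin k} {ρ : Equiv.Perm (Fin (2 ^ m + 1))} (h : i ≠ i₀) : upd i₀ ρ i = 1 :=
  Function.update_of_ne h _ _

theorem upd_mul {i₀ : Fin k} (ρ ρ' : Equiv.Perm (Fin (2 ^ m + 1))) : upd i₀ ρ * upd i₀ ρ' = upd i₀ (ρ * ρ') := by
  funext i
  by_cases hi : i = i₀
  · subst hi
    rw [Pi.mul_apply, upd_self, upd_self, upd_self]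
  · rw [Pi.mul_apply, upd_ne hi, upd_ne hi, upd_ne hi, mul_one]

theorem upd_inv {i₀ : Fin k} (ρ : Equiv.Perm (Fin (2 ^ m + 1))) : (upd i₀ ρ)⁻¹ = upd i₀ ρ⁻¹ := by
  funext i
  by_cases hi : i = i₀
  · subst hi
    rw [Pi.inv_apply, upd_self, upd_self]
  · rw [Pi.inv_apply, upd_ne hi, upd_ne hi, inv_one]

theorem upd_one {i₀ : Fin k} : upd i₀ (1 : Equiv.Perm (Fin (2 ^ m + 1))) = 1 := by
  funext i
  by_cases hi : i = i₀
  · subst hi
    rw [upd_self]; rfl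
  · rw [upd_ne hi]; rfl

/-- a transposition centralises `v` iff the two coordinates agree -/
theorem swap_eq_one {g v : G} (hg : g ∈ P) (hv : v ∈ zl T P) {i₀ : Fin k} {x₀ y₀ : Fin (2 ^ m + 1)}
    (hA : ActsSym M.e (zl T P) g 1 (upd i₀ (Equiv.swap x₀ y₀))) :
    Q.k g v = 1 ↔ M.e v i₀ x₀ + M.e v i₀ y₀ = 0 := by
  rw [k_eq_one_iff hg hv hA]
  constructor
  · intro h
    have h1 := h i₀ x₀
    rw [upd_self, Equiv.swap_apply_left] at h1
    rw [h1, z2_add_self]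
  · intro h i x
    have h1 : M.e v i₀ x₀ = M.e v i₀ y₀ := by
      rw [eq_neg_of_add_eq_zero_left h, z2_neg]
    by_cases hi : i = i₀
    · subst hi
      rw [upd_self]
      by_cases hx : x = x₀
      · rw [hx, Equiv.swap_apply_left, h1]
      · by_cases hy : x = y₀
        · rw [hy, Equiv.swap_apply_right, h1]
        · rw [Equiv.swap_apply_of_ne_of_ne hx hy]
    · rw [upd_ne hi, Equiv.Perm.one_apply]

/-- An element of `V` such that the coordinates `(i₀, x₀)`, `(i₀, y₀)` of all its conjugates agree is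
trivial. -/
theorem eq_one_of_ker (hm : 1 ≤ m) (TP : T ≤ P) {i₀ : Fin k} {x₀ y₀ : Fin (2 ^ m + 1)} (hxy : x₀ ≠ y₀)
    {u : G} (hu : u ∈ zl T P)
    (h : ∀ p ∈ P, M.e (p * u * p⁻¹) i₀ x₀ + M.e (p * u * p⁻¹) i₀ y₀ = 0) : u = 1 := by
  have h1 : ∀ p ∈ P, M.e (p * u * p⁻¹) i₀ = 0 := by
    intro p hp
    refine const_eq_zero hm (M.even _ (hn _ hp _ hu) i₀) fun x => ?_
    by_cases hx0 : x = 0
    · rw [hx0]
    -- a permutation mapping `x, 0` to `x₀, y₀`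
    obtain ⟨ρ, hρ1, hρ2⟩ : ∃ ρ : Equiv.Perm (Fin (2 ^ m + 1)), ρ x = x₀ ∧ ρ 0 = y₀ := by
      refine ⟨Equiv.swap (Equiv.swap x x₀ 0) y₀ * Equiv.swap x x₀, ?_, ?_⟩
      · rw [Equiv.Perm.mul_apply, Equiv.swap_apply_left, Equiv.swap_apply_of_ne_of_ne _ hxy]
        intro h2
        have h3 := congrArg (Equiv.swap x x₀) h2
        rw [Equiv.swap_apply_self, Equiv.swap_apply_right] at h3
        exact hx0 h3
      · rw [Equiv.Perm.mul_apply, Equiv.swap_apply_left]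
    obtain ⟨g, hg, hA, -⟩ := M.lift (upd i₀ ρ)
    have h2 := h (g * p) (mul_mem hg hp)
    have e : g * p * u * (g * p)⁻¹ = g * (p * u * p⁻¹) * g⁻¹ := by group
    have h3 : ∀ z, M.e (g * (p * u * p⁻¹) * g⁻¹) i₀ (ρ z) = M.e (p * u * p⁻¹) i₀ z := by
      intro z
      have h4 := hA _ (hn _ hp _ hu) i₀ z
      rw [upd_self] at h4
      exact h4
    rw [e, ← hρ1, ← hρ2, h3, h3] at h2
    rw [eq_neg_of_add_eq_zero_left h2, z2_neg]
  rw [← e_eq_zero M hu]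
  funext j
  obtain ⟨t, ht, σ, τ, hA, hσ⟩ := M.trans j i₀
  funext x
  have h2 := hA u hu j x
  rw [hσ, h1 t (TP ht)] at h2
  exact h2.symm

/-- The root group of the factor `i₀`. -/
structure RG (M : SymK T P (zl T P) ⊥ k m) (A : Subgroup G) (i₀ : Fin k) (x₀ y₀ z₀ : Fin (2 ^ m + 1))
    (t p : G) : Prop where
  mem : t ∈ A
  acts : ActsSym M.e (zl T P) t 1 (upd i₀ (Equiv.swap x₀ y₀))
  pP : p ∈ P
  pA : ActsSym M.e (zl T P) p 1 (upd i₀ (Equiv.swap x₀ z₀))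
  xy : x₀ ≠ y₀
  xz : z₀ ≠ x₀
  yz : z₀ ≠ y₀

/-- The root group `{1, t}`. -/
def rt (t : G) (b : ZMod 2) : G := if b = 0 then 1 else t

theorem rt_zero (t : G) : rt t 0 = 1 := if_pos rfl

theorem rt_one (t : G) : rt t 1 = t := if_neg one_ne_zero

theorem z2_cases (b : ZMod 2) : b = 0 ∨ b = 1 := by
  revert b; decide

theorem rt_mem {H : Subgroup G} {t : G} (h : t ∈ H) (b : ZMod 2) : rt t b ∈ H := by
  rcases z2_cases b with rfl | rfl
  · rw [rt_zero]; exact one_mem _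
  · rw [rt_one]; exact h

theorem rootM {M₀ W A : Subgroup G} (s : Sit M₀ W (zl T P)) (PM : P ≤ M₀) {i₀ : Fin k}
    {x₀ y₀ z₀ : Fin (2 ^ m + 1)} {t p : G} (R : RG M A i₀ x₀ y₀ z₀ t p) (hA : A ≤ P)
    (hsplit : ∀ w ∈ W, ∃ v ∈ zl T P, v⁻¹ * w ∈ centralizer (A : Set G)) :
    RootM M₀ W (zl T P) (ZMod 2) (rt t) (p * t * p⁻¹) fun v => M.e v i₀ x₀ + M.e v i₀ y₀ := by
  have htP : t ∈ P := hA R.mem
  have htW : ∀ w ∈ W, Q.k t w ∈ zl T P := by
    intro w hw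
    obtain ⟨v, hv, hc⟩ := hsplit w hw
    have e : w = v * (v⁻¹ * w) := by group
    have h1 : Q.k t (v⁻¹ * w) = 1 := k_eq_one.2 (mem_centralizer_iff.1 hc _ R.mem)
    rw [e, s.k_mul_right (PM htP) (s.VW hv) (W.mul_mem (W.inv_mem (s.VW hv)) hw), h1, mul_one]
    exact k_mem htP hv
  have hlP : p * t * p⁻¹ ∈ P := mul_mem (mul_mem R.pP htP) (inv_mem R.pP)
  have hk1 : ∀ v : G, Q.k (rt t 0) v = 1 := fun v => by rw [rt_zero, k_one]
  refine
  { mem := fun b => PM (rt_mem htP b)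
    aW := fun b w hw => ?_
    lM := PM hlP
    lW := fun w hw => ?_
    f_mul := fun u hu v hv => ?_
    add := fun b b' v hv => ?_
    zero := fun v hv h b => ?_
    inj := fun b hb v hv h => ?_
    disj := fun b c v hv v' hv' h => ?_ }
  · rcases z2_cases b with rfl | rfl
    · rw [hk1]; exact one_mem _
    · rw [rt_one]; exact htW w hw
  · have e : w = p * (p⁻¹ * w * p) * p⁻¹ := by group
    rw [e, k_cj]
    refine hn _ R.pP _ (htW _ ?_)
    have := s.cj_mem (M₀.inv_mem (PM R.pP)) hw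
    rwa [inv_inv] at this
  · rw [M.mul u hu v hv]
    simp only [Pi.add_apply]
    ring
  · rcases z2_cases b with rfl | rfl
    · rw [zero_add, hk1, one_mul]
    · rcases z2_cases b' with rfl | rfl
      · rw [add_zero, hk1, mul_one]
      · rw [z2_add_self, hk1, rt_one]
        exact (s.sq _ (s.VW (k_mem htP hv))).symm
  · rcases z2_cases b with rfl | rfl
    · exact hk1 v
    · rw [rt_one]
      exact (swap_eq_one htP hv R.acts).2 h
  · rcases z2_cases b with rfl | rfl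
    · exact absurd rfl hb
    · rw [rt_one] at h
      exact (swap_eq_one htP hv R.acts).1 h
  · rcases z2_cases b with rfl | rfl
    · exact hk1 v
    rcases z2_cases c with rfl | rfl
    · rw [hk1] at h
      rw [h]; group
    rw [rt_one] at h ⊢
    -- compare the coordinates `(i₀, z₀)`
    have hu : Q.k t v' ∈ zl T P := k_mem htP hv'
    have hl : ActsSym M.e (zl T P) (p * t * p⁻¹) 1 (upd i₀ (Equiv.swap z₀ y₀)) := by
      have h1 := acts_mul1 hn (inv_mem R.pP) (acts_mul1 hn htP R.pA R.acts) (acts_inv1 hn R.pP R.pA)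
      rwa [upd_inv, upd_mul, upd_mul, ← Equiv.swap_apply_apply, Equiv.swap_apply_left,
        Equiv.swap_apply_of_ne_of_ne R.xy.symm R.yz.symm] at h1
    have h1 : M.e (p * t * p⁻¹ * Q.k t v' * (p * t * p⁻¹)⁻¹) i₀ z₀ = M.e (Q.k t v') i₀ y₀ := by
      have h2 := hl _ hu i₀ y₀
      rw [upd_self, Equiv.swap_apply_right] at h2
      exact h2
    have h3 : M.e (Q.k t v) i₀ z₀ = 0 := by
      have h4 := e_k htP hv R.acts i₀ z₀
      rw [upd_self, Equiv.swap_apply_of_ne_of_ne R.xz R.yz, z2_add_self] at h4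
      exact h4
    have h5 : M.e (Q.k t v') i₀ y₀ = M.e v' i₀ x₀ + M.e v' i₀ y₀ := by
      have h4 := e_k htP hv' R.acts i₀ x₀
      rw [upd_self, Equiv.swap_apply_left] at h4
      exact h4
    rw [h, h1, h5, ← swap_eq_one htP hv' R.acts] at h3
    rw [h, h3]; group

variable (M) in
/-- The elements of `P` which act as permutations of the factor `i`. -/
def grp (i : Fin k) : Subgroup G where
  carrier := {g | g ∈ P ∧ ∃ τ : Fin k → Equiv.Perm (Fin (2 ^ m + 1)), ActsSym M.e (zl T P) g 1 τ ∧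
    ∀ j, j ≠ i → τ j = 1}
  one_mem' := ⟨one_mem _, 1, acts_one, fun _ _ => rfl⟩
  mul_mem' := by
    rintro a b ⟨ha, A, hA, hA'⟩ ⟨hb, B, hB, hB'⟩
    exact ⟨mul_mem ha hb, A * B, acts_mul1 hn hb hA hB, fun i hi => by
      rw [Pi.mul_apply, hA' i hi, hB' i hi, mul_one]⟩
  inv_mem' := by
    rintro a ⟨ha, A, hA, hA'⟩
    exact ⟨inv_mem ha, A⁻¹, acts_inv1 hn ha hA, fun i hi => by rw [Pi.inv_apply, hA' i hi, inv_one]⟩

/-- Conjugation of `grp M i`. -/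
theorem conj_grp {g h : G} (hg : g ∈ P) {σ : Equiv.Perm (Fin k)} {τ : Fin k → Equiv.Perm (Fin (2 ^ m + 1))}
    (hA : ActsSym M.e (zl T P) g σ τ) {i : Fin k} (hh : h ∈ grp M i) : g * h * g⁻¹ ∈ grp M (σ i) := by
  obtain ⟨hhP, ρ, hρ, hρ'⟩ := hh
  refine ⟨mul_mem (mul_mem hg hhP) (inv_mem hg), _, acts_conj hn hg hhP hA hρ, fun j hj => ?_⟩
  have h1 : σ⁻¹ j ≠ i := by
    intro h2
    apply hj
    rw [← h2]
    exact (σ.apply_symm_apply j).symm
  rw [hρ' _ h1, mul_one, mul_inv_cancel]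

/-- `grp M i` centralises the vectors with trivial `i`-th component. -/
theorem grp_comm {i : Fin k} {g v : G} (hg : g ∈ grp M i) (hv : v ∈ zl T P) (h : M.e v i = 0) :
    Q.k g v = 1 := by
  obtain ⟨hgP, τ, hA, hA'⟩ := hg
  rw [k_eq_one_iff hgP hv hA]
  intro j x
  by_cases hj : j = i
  · rw [hj, h]; rfl
  · rw [hA' j hj, Equiv.Perm.one_apply]

/-- `W = V C_W(S_n^{i₀})` -/
theorem split_grp [Finite G] (hm : 1 ≤ m) {M₀ W A : Subgroup G} {i₀ : Fin k} {x₀ y₀ z₀ : Fin (2 ^ m + 1)}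
    {t p : G} (c : Core T P M₀ W (zl T P) (ZMod 2) (rt t) (p * t * p⁻¹) fun v => M.e v i₀ x₀ + M.e v i₀ y₀)
    (R : RG M A i₀ x₀ y₀ z₀ t p) (hA : A ≤ P)
    (hsplit : ∀ w ∈ W, ∃ v ∈ zl T P, v⁻¹ * w ∈ centralizer (A : Set G))
    {w : G} (hw : w ∈ W) : ∃ v ∈ zl T P, v⁻¹ * w ∈ centralizer (grp M i₀ : Set G) := by
  have htP : t ∈ P := hA R.mem
  -- the adjacent transpositions
  have h1 : ∀ j : Fin (2 ^ m), ∃ s ∈ P, ActsSym M.e (zl T P) s 1 (upd i₀ (Equiv.swap j.castSucc j.succ)) ∧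
      ∃ v ∈ zl T P, Q.k s (v⁻¹ * w) = 1 := by
    intro j
    have hjj : j.castSucc ≠ j.succ := (Fin.castSucc_lt_succ (i := j)).ne
    obtain ⟨ρ, hρ1, hρ2⟩ : ∃ ρ : Equiv.Perm (Fin (2 ^ m + 1)), ρ x₀ = j.castSucc ∧ ρ y₀ = j.succ := by
      refine ⟨Equiv.swap (Equiv.swap x₀ j.castSucc y₀) j.succ * Equiv.swap x₀ j.castSucc, ?_, ?_⟩
      · rw [Equiv.Perm.mul_apply, Equiv.swap_apply_left, Equiv.swap_apply_of_ne_of_ne _ hjj]
        intro h2
        have h3 := congrArg (Equiv.swap x₀ j.castSucc) h2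
        rw [Equiv.swap_apply_self, Equiv.swap_apply_right] at h3
        exact R.xy h3
      · rw [Equiv.Perm.mul_apply, Equiv.swap_apply_left]
    obtain ⟨g, hg, hgA, -⟩ := M.lift (upd i₀ ρ)
    refine ⟨g * t * g⁻¹, mul_mem (mul_mem hg htP) (inv_mem hg), ?_, ?_⟩
    · have h2 := acts_mul1 hn (inv_mem hg) (acts_mul1 hn htP hgA R.acts) (acts_inv1 hn hg hgA)
      rwa [upd_inv, upd_mul, upd_mul, ← Equiv.swap_apply_apply, hρ1, hρ2] at h2
    · obtain ⟨v, hv, hc⟩ := hsplit _ (c.cjW' hg hw)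
      refine ⟨g * v * g⁻¹, hn _ hg _ hv, ?_⟩
      have e : (g * v * g⁻¹)⁻¹ * w = g * (v⁻¹ * (g⁻¹ * w * g)) * g⁻¹ := by group
      rw [e, k_cj, k_eq_one.2 (mem_centralizer_iff.1 hc _ R.mem)]
      group
  choose s hsP hsA y hy hyc using h1
  obtain ⟨d, hd0, hd⟩ := exists_even hm fun j => M.e (y j) i₀ j.castSucc + M.e (y j) i₀ j.succ
  obtain ⟨v, hv, hev⟩ := M.surj (fun _ => d) fun _ => hd0
  have huW : v⁻¹ * w ∈ W := W.mul_mem (W.inv_mem (c.VW hv)) hw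
  have h2 : ∀ j, Q.k (s j) (v⁻¹ * w) = 1 := by
    intro j
    have hx : v⁻¹ * y j ∈ zl T P := mul_mem (inv_mem hv) (hy j)
    have hz : (y j)⁻¹ * w ∈ W := W.mul_mem (W.inv_mem (c.VW (hy j))) hw
    have e : v⁻¹ * w = (v⁻¹ * y j) * ((y j)⁻¹ * w) := by group
    have h3 : Q.k (s j) (v⁻¹ * y j) = 1 := by
      rw [swap_eq_one (hsP j) hx (hsA j), M.mul _ (inv_mem hv) _ (hy j), e_inv M hv, hev]
      have h4 := hd j
      have h5 := z2_add_self (M.e (y j) i₀ j.castSucc + M.e (y j) i₀ j.succ)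
      simp only [Pi.add_apply]
      linear_combination h4 + h5
    rw [e, c.k_mul_right (c.PM (hsP j)) (c.VW hx) hz, h3, hyc j, one_mul]
  have hmm : ∀ {x y : G}, Q.k x (v⁻¹ * w) = 1 → Q.k y (v⁻¹ * w) = 1 → Q.k (x * y) (v⁻¹ * w) = 1 := by
    intro x y hx hy
    rw [k_eq_one] at hx hy ⊢
    rw [mul_assoc, hy, ← mul_assoc, hx, mul_assoc]
  -- all permutations
  have h3 : ∀ ρ : Equiv.Perm (Fin (2 ^ m + 1)), ∃ h ∈ P, Q.k h (v⁻¹ * w) = 1 ∧
      ActsSym M.e (zl T P) h 1 (upd i₀ ρ) := by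
    intro ρ
    have h4 : ρ ∈ Submonoid.closure (Set.range fun j : Fin (2 ^ m) => Equiv.swap j.castSucc j.succ) := by
      rw [Equiv.Perm.mclosure_swap_castSucc_succ]; trivial
    induction h4 using Submonoid.closure_induction with
    | mem x hx =>
      obtain ⟨j, rfl⟩ := hx
      exact ⟨s j, hsP j, h2 j, hsA j⟩
    | one => exact ⟨1, one_mem _, k_one _, by rw [upd_one]; exact acts_one⟩
    | mul x y _ _ hx hy =>
      obtain ⟨a, ha, ha1, ha2⟩ := hx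
      obtain ⟨b, hb, hb1, hb2⟩ := hy
      refine ⟨a * b, mul_mem ha hb, hmm ha1 hb1, ?_⟩
      rw [← upd_mul]
      exact acts_mul1 hn hb ha2 hb2
  refine ⟨v, hv, ?_⟩
  rw [mem_centralizer_iff]
  rintro g ⟨hg, τ, hτ, hτ'⟩
  have hτe : τ = upd i₀ (τ i₀) := by
    funext i
    by_cases hi : i = i₀
    · subst hi
      rw [upd_self]
    · rw [upd_ne hi, hτ' i hi]
  obtain ⟨h, hh, hh1, hh2⟩ := h3 (τ i₀)
  rw [← hτe] at hh2
  have h4 : Q.k (h⁻¹ * g) (v⁻¹ * w) = 1 :=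
    c.comm (c.PM (mul_mem (inv_mem hh) hg)) (fun v hv => mem_cent_of_acts hh hg hh2 hτ hv) huW
  have h5 := hmm hh1 h4
  rw [mul_inv_cancel_left] at h5
  exact k_eq_one.1 h5

/-- **THEOREM VF, (2)-(5), even subset modules.** -/
theorem sym_le [Finite G] (M : SymKM T P (zl T P) ⊥ k m) (hm : 1 ≤ m) {M₀ W A : Subgroup G}
    (s : Sit M₀ W (zl T P)) (hT : IsPGroup 2 T) (TP : T ≤ P) (PM : P ≤ M₀) (WT : W ≤ T) (no : NoOverM W M₀)
    (noP : NoOverM (zl T P) P) (hAT : A ≤ T) (off : OffM W A) (hne : ¬ A ≤ centralizer (zl T P : Set G))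
    (hAC : A ⊓ centralizer (zl T P : Set G) ≤ centralizer (W : Set G)) : W ≤ zl T P := by
  have offV := s.offM_of off hne hAC
  have hAP : A ≤ P := hAT.trans TP
  have hsplit : ∀ w ∈ W, ∃ v ∈ zl T P, v⁻¹ * w ∈ centralizer (A : Set G) := fun w hw =>
    s.exists_split off hAC (noP A hAP offV.toElemM) hw
  obtain ⟨-, hI⟩ := M.offM A hAT offV
  -- a transposition in `A`
  obtain ⟨t, ht, i₀, x₀, y₀, hxy, htA⟩ : ∃ t ∈ A, ∃ (i₀ : Fin k) (x₀ y₀ : Fin (2 ^ m + 1)), x₀ ≠ y₀ ∧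
      ActsSym M.e (zl T P) t 1 (upd i₀ (Equiv.swap x₀ y₀)) := by
    by_contra hcon
    apply hne
    intro x hx
    obtain ⟨τ, hτ, h1⟩ := hI x hx
    rw [mem_centralizer_iff]
    intro v hv
    have h2 : Q.k x v = 1 := by
      rw [k_eq_one_iff (M := M.toSymK) (hAP hx) hv hτ]
      intro i z
      by_cases hz : τ i z = z
      · rw [hz]
      · exfalso
        obtain ⟨-, b, hb, hbA⟩ := h1 i z hz
        refine hcon ⟨b, hb, i, z, τ i z, Ne.symm hz, ?_⟩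
        convert hbA using 2
    exact (k_eq_one.1 h2).symm
  obtain ⟨z₀, hz1, hz2⟩ : ∃ z₀ : Fin (2 ^ m + 1), z₀ ≠ x₀ ∧ z₀ ≠ y₀ := by
    have h1 : 2 < Fintype.card (Fin (2 ^ m + 1)) := by
      rw [Fintype.card_fin]
      have : 2 ^ 1 ≤ 2 ^ m := Nat.pow_le_pow_right (by norm_num) hm
      omega
    obtain ⟨z₀, hz⟩ := Fintype.exists_ne_of_one_lt_card (α := Fin (2 ^ m + 1)) (by omega) x₀
    have h2 : ({x₀, y₀} : Finset (Fin (2 ^ m + 1))).card < Fintype.card (Fin (2 ^ m + 1)) :=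
      lt_of_le_of_lt (Finset.card_le_two) h1
    obtain ⟨z, hz⟩ := Finset.exists_mem_notMem_of_card_lt_card (t := Finset.univ) (s := {x₀, y₀})
      (by rw [Finset.card_univ]; exact h2)
    refine ⟨z, fun h3 => hz.2 (by rw [h3]; simp), fun h3 => hz.2 (by rw [h3]; simp)⟩
  obtain ⟨p, hp, hpA, -⟩ := M.lift (upd i₀ (Equiv.swap x₀ z₀))
  have R : RG M.toSymK A i₀ x₀ y₀ z₀ t p := ⟨ht, htA, hp, hpA, hxy, hz1, hz2⟩
  have htP : t ∈ P := hAP ht
  have c : Core T P M₀ W (zl T P) (ZMod 2) (rt t) (p * t * p⁻¹) fun v => M.e v i₀ x₀ + M.e v i₀ y₀ :=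
    { toSit := s
      two := hT
      TP := TP
      PM := PM
      nV := Cfsg.Agent.ZN.le_normalizer_zl T P
      WT := WT
      zV := Cfsg.Agent.ZN.zc_le_zl
      no := no
      one_lt := Finite.one_lt_card
      root := rootM s PM R hAP hsplit
      aP := fun b => rt_mem htP b
      lP := mul_mem (mul_mem hp htP) (inv_mem hp)
      ker := fun u hu h => eq_one_of_ker hm TP hxy hu h }
  refine c.le (fun i => grp M.toSymK i) (fun i w hw => ?_) (fun y hy => ?_) (fun g hg b => ?_)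
  · obtain ⟨g, hg, σ, τ, hgA, hσ⟩ := M.trans i₀ i
    obtain ⟨v, hv, hc⟩ := split_grp hm c R hAP hsplit (c.cjW' (TP hg) hw)
    refine ⟨g * v * g⁻¹, c.cjV (TP hg) hv, ?_⟩
    rw [mem_centralizer_iff]
    intro x hx
    have hx' : g⁻¹ * x * g ∈ grp M.toSymK i₀ := by
      have h1 := conj_grp (inv_mem (TP hg)) (acts_inv hn (TP hg) hgA) hx
      rw [inv_inv] at h1
      have h2 : σ⁻¹ i = i₀ := by rw [← hσ]; exact σ.symm_apply_apply i₀
      rwa [h2] at h1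
    have h1 := mem_centralizer_iff.1 hc _ hx'
    calc x * ((g * v * g⁻¹)⁻¹ * w) = g * (g⁻¹ * x * g * (v⁻¹ * (g⁻¹ * w * g))) * g⁻¹ := by group
      _ = g * (v⁻¹ * (g⁻¹ * w * g) * (g⁻¹ * x * g)) * g⁻¹ := by rw [h1]
      _ = (g * v * g⁻¹)⁻¹ * w * x := by group
  · obtain ⟨v, hv, hev⟩ := M.surj (fun i => M.e (y i) i) fun i => M.even _ (hy i) i
    refine ⟨v, hv, fun i => ?_⟩
    have h1 : M.e (v⁻¹ * y i) i = 0 := by
      rw [M.mul _ (inv_mem hv) _ (hy i), e_inv M.toSymK hv, hev, Pi.add_apply]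
      funext x
      exact z2_add_self _
    rw [mem_centralizer_iff]
    intro g hg
    exact k_eq_one.1 (grp_comm hg (mul_mem (inv_mem hv) (hy i)) h1)
  · obtain ⟨σ, τ, hgA⟩ := M.perm g hg
    refine ⟨σ i₀, conj_grp hg hgA (rt_mem ?_ b)⟩
    exact ⟨htP, _, htA, fun j hj => upd_ne hj⟩

end coord

end Cfsg.Agent.Omega.NOThreeL.VF.Q.S
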