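import Cfsg.Agent.Omega.NOThreeL.VF.EqNat
import Cfsg.Agent.Omega.NOThreeL.VF.EqSym
import Cfsg.Agent.Omega.NOThreeL.VF.One
import Cfsg.Agent.Omega.NOThreeL.VF.End

/-!
# THEOREM VF (#16966)

* `eq_zl` : `M ∈ L(S)` generated by members of `P*(S)` with `C_V(O²(P)) = 1`, an offender on `V_M = zl S M`
  gives `V_M = V_P` for some `P ∈ P*(S)`, `P ≤ M`, with an offender on `V_P`;
* `false_of_off` : `Full`, `DataZ`, `M₀ = ⟨P*(S)⟩` local: there is no offender on `zl S M₀`.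
-/

set_option autoImplicit false

namespace Cfsg.Agent.Omega.NOThreeL.VF.Q

open Subgroup Cfsg Cfsg.Agent.ZN Cfsg.Agent.Omega.MinPar Cfsg.Agent.Omega.FFThm Cfsg.Agent.Omega.Frame
open Cfsg.Agent.ZN.ChoiceSit (Syl)
open Cfsg.Agent.Omega.FrameFF (cv)

universe u

variable {G : Type u} [Group G] [Finite G]

/-- **THEOREM VF, (1)-(5).** -/
theorem eq_zl (hFF : StmtM.{u}) (hc : IsCharacteristicTwoType G) (S : Sylow 2 G) {M : Subgroup G}
    (hM : IsLoc (S : Subgroup G) M) (hgen : M ≤ sSup {P | IsParS (S : Subgroup G) P ∧ P ≤ M})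
    (hcv : ∀ P, IsParS (S : Subgroup G) P → P ≤ M → cv (S : Subgroup G) P = ⊥)
    (hoff : ∃ A ≤ M, OffM (zl (S : Subgroup G) M) A) :
    ∃ P, IsParS (S : Subgroup G) P ∧ P ≤ M ∧ zl (S : Subgroup G) M = zl (S : Subgroup G) P ∧
      ∃ A ≤ (S : Subgroup G), OffM (zl (S : Subgroup G) P) A := by
  obtain ⟨no, P, hP, hPM, A, hA, offW, offV, hAC, hcon⟩ := VF.one hFF hc S hM hgen hoff
  refine ⟨P, hP, hPM, ?_, A, hA, offV⟩
  have hSP : (S : Subgroup G) ≤ P := hP.le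
  have hno : NoOverM (zl (S : Subgroup G) P) P :=
    (hFF G S P (syl_of_sylow S hSP) hP.toIsMinPar (hP.isLoc.char2 S hc) ⟨A, hA.trans hSP, offV⟩).1
  have hVW : zl (S : Subgroup G) P ≤ zl (S : Subgroup G) M := by
    unfold zl
    exact iSup_le fun p => le_iSup (fun g : M => (zc (S : Subgroup G)).map (MulAut.conj (g : G)).toMonoidHom)
      ⟨p, hPM p.2⟩
  have hE := FFThm.elem_zl hc S hM
  have s : Sit M (zl (S : Subgroup G) M) (zl (S : Subgroup G) P) :=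
    { ab := fun x hx y hy => congrArg Subtype.val (hE.1.is_comm.comm ⟨x, hx⟩ ⟨y, hy⟩)
      sq := fun x hx => by rw [← pow_two]; exact hE.2 x hx
      VW := hVW
      nW := le_normalizer_zl _ _ }
  have hWS : zl (S : Subgroup G) M ≤ (S : Subgroup G) := ((hM.zl_le S hc).trans (zc_le _)).trans (hM.o2_le S)
  have hcv' := hcv P hP hPM
  refine le_antisymm ?_ hVW
  rcases hcon with ⟨F, _, _, _, k, hk, ⟨N⟩⟩ | ⟨k, m, hk, hm, ⟨N⟩⟩
  · rw [hcv'] at N
    exact nat_le N s S.isPGroup' hSP hPM hWS no hno hA offW offV.ne hAC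
  · rw [hcv'] at N
    exact Q.S.sym_le N (by omega) s S.isPGroup' hSP hPM hWS no hno hA offW offV.ne hAC

/-- **THEOREM VF.** `Full`, `DataZ`, `M₀ = ⟨P*(S)⟩` local: there is no offender on `zl S M₀`. -/
theorem false_of_off (hFF : StmtM.{u}) (h : Ctx G) (S : Sylow 2 G) (hF : Full (S : Subgroup G))
    (D : Basic.DataZ (S : Subgroup G)) (hM : IsLoc (S : Subgroup G) (sSup {P | IsParS (S : Subgroup G) P}))
    (hoff : ∃ A ≤ sSup {P | IsParS (S : Subgroup G) P},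
      OffM (zl (S : Subgroup G) (sSup {P | IsParS (S : Subgroup G) P})) A) : False := by
  have hle : ∀ P, IsParS (S : Subgroup G) P → P ≤ sSup {P | IsParS (S : Subgroup G) P} := fun P hP =>
    le_sSup hP
  obtain ⟨P, hP, -, he, A, hA, hAo⟩ := eq_zl hFF h.char2 S hM
    (sSup_le fun P hP => le_sSup ⟨hP, hle P hP⟩) (fun P hP _ => D.cv_eq h.char2 hP) hoff
  refine VF.false_of_eq hFF h hF D hP ⟨A, hA, hAo⟩ fun R hR => ?_
  rw [← he]
  exact (hle R hR).trans (le_normalizer_zl _ _)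

end Cfsg.Agent.Omega.NOThreeL.VF.Q
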