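import Cfsg.Agent.Omega.NOThreeL.VF.Base
import Cfsg.Agent.Omega.NO3S.OneLine.Nat

/-!
# NO-3L, THEOREM VF (#16966, helper597), step (6): natural modules (helper924)

`M : NatKM F S P V ⊥ k`, `S` a Sylow 2-subgroup of `G`, `m ∈ N_G(V)`, `1 ≠ z ∈ Ω₁(Z(S))`: `z^m` is conjugate to
`z` in `P` (`fus`).
-/

set_option autoImplicit false
set_option linter.unusedSectionVars false

namespace Cfsg.Agent.Omega.NOThreeL.VF.Nat

open Subgroup Cfsg Cfsg.Agent.ZN Cfsg.Agent.Omega.FFThm Cfsg.Agent.Omega.Half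
open Cfsg.Agent.Omega.Half.NatA (e_one e_inv eq_one inj)
open Cfsg.Agent.Omega.NatPair (ap ap_one ap_add exists_ap ap_mul)
open Cfsg.Agent.MinSimple.VModule (mem_zc zc_le)
open Cfsg.Agent.Lib.SL2Mat
open Cfsg.Agent.Omega.NO3S.OneLine (card_of_map)

universe u

variable {G : Type u} [Group G] {F : Type} [Field F] {T H V : Subgroup G} {k : ℕ}

theorem ap_up_0 (b : F) (x : Fin 2 → F) : ap (up b) x 0 = x 0 + b * x 1 := by
  change 1 * x 0 + b * x 1 = _
  rw [one_mul]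

theorem ap_up_1 (b : F) (x : Fin 2 → F) : ap (up b) x 1 = x 1 := by
  change 0 * x 0 + 1 * x 1 = _
  rw [zero_mul, one_mul, zero_add]

omit [Field F] in
theorem ext2' {x y : Fin 2 → F} (h0 : x 0 = y 0) (h1 : x 1 = y 1) : x = y := by
  funext i
  fin_cases i
  · exact h0
  · exact h1

theorem single_mul (i : Fin k) (b : F) (x : Fin k → F) :
    (∀ j, (Pi.single i b : Fin k → F) j * x j = 0) ↔ b * x i = 0 := by
  constructor
  · intro h
    have := h i
    rwa [Pi.single_eq_same] at this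
  · intro h j
    by_cases hj : j = i
    · subst hj; rwa [Pi.single_eq_same]
    · rw [Pi.single_eq_of_ne hj, zero_mul]

section basic

variable (M : NatK F T H V ⊥ k) (hA : Amb T H V)
include hA

/-- the action of an element which acts as `up b` -/
theorem act_0 {t : G} {b : Fin k → F} (h : ActsSL M.e V ⊥ t fun i => up (b i)) {v : G} (hv : v ∈ V) (i : Fin k) :
    M.e (t * v * t⁻¹) i 0 = M.e v i 0 + b i * M.e v i 1 := by
  rw [h.1 v hv i, ap_up_0]

theorem act_1 {t : G} {b : Fin k → F} (h : ActsSL M.e V ⊥ t fun i => up (b i)) {v : G} (hv : v ∈ V) (i : Fin k) :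
    M.e (t * v * t⁻¹) i 1 = M.e v i 1 := by
  rw [h.1 v hv i, ap_up_1]

theorem comm_iff {t : G} (ht : t ∈ H) {b : Fin k → F} (h : ActsSL M.e V ⊥ t fun i => up (b i)) {v : G}
    (hv : v ∈ V) : t * v = v * t ↔ ∀ i, b i * M.e v i 1 = 0 := by
  constructor
  · intro hc i
    have h1 := act_0 M hA h hv i
    rw [hc, mul_inv_cancel_right] at h1
    exact left_eq_add.1 h1
  · intro h0
    have h1 : t * v * t⁻¹ = v := by
      refine inj M (hA.conj_mem ht hv) hv (funext fun i => ext2' ?_ ?_)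
      · rw [act_0 M hA h hv, h0, add_zero]
      · exact act_1 M hA h hv i
    rwa [mul_inv_eq_iff_eq_mul] at h1

theorem zc_one {z : G} (hz : z ∈ zc T) (i : Fin k) : M.e z i 1 = 0 := by
  obtain ⟨t, ht, h⟩ := M.unip fun _ => 1
  have h1 := (comm_iff M hA (hA.TH ht) h (hA.zc hz)).1 ((mem_zc.1 hz).2.1 t ht) i
  rwa [one_mul] at h1

theorem zc_ne {z : G} (hz : z ∈ zc T) (hz1 : z ≠ 1) (i : Fin k) : M.e z i ≠ 0 := by
  intro h0
  apply hz1
  refine eq_one M (hA.zc hz) (funext fun j => ?_)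
  obtain ⟨t, ht, h⟩ := M.trans i j
  have h1 := (h z (hA.zc hz)).2 h0
  have h2 : t * z * t⁻¹ = z := by
    rw [(mem_zc.1 hz).2.1 t ht, mul_inv_cancel_right]
  rwa [h2] at h1

/-- the conjugate of a vector into the lines -/
theorem exists_line {w : G} (hw : w ∈ V) : ∃ g ∈ H, ∀ i, M.e (g * w * g⁻¹) i 1 = 0 := by
  have h1 : ∀ i, ∃ A : Matrix.SpecialLinearGroup (Fin 2) F, ap A (M.e w i) 1 = 0 := by
    intro i
    by_cases h0 : M.e w i = 0
    · exact ⟨1, by rw [h0, Half.ap_zero]; rfl⟩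
    · obtain ⟨A, hA'⟩ := exists_ap (x := M.e w i) (y := ![1, 0]) h0 (by
        intro h; exact one_ne_zero (congrFun h 0))
      exact ⟨A, by rw [hA']; rfl⟩
  choose A hAi using h1
  obtain ⟨g, hg, h2, -⟩ := M.lift A
  exact ⟨g, hg, fun i => by rw [h2 w hw i, hAi]⟩

/-- full support: conjugate -/
theorem exists_conj {z w : G} (hz : z ∈ V) (hw : w ∈ V) (h1 : ∀ i, M.e z i ≠ 0) (h2 : ∀ i, M.e w i ≠ 0) :
    ∃ g ∈ H, g * z * g⁻¹ = w := by
  have h3 : ∀ i, ∃ A : Matrix.SpecialLinearGroup (Fin 2) F, ap A (M.e z i) = M.e w i :=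
    fun i => exists_ap (h1 i) (h2 i)
  choose A hAi using h3
  obtain ⟨g, hg, h4, -⟩ := M.lift A
  refine ⟨g, hg, inj M (hA.conj_mem hg hz) hw (funext fun i => ?_)⟩
  rw [h4 z hz i, hAi]

/-- the root group `i` in `T` -/
def Rt (i : Fin k) : Subgroup G where
  carrier := {t | t ∈ T ∧ ∃ b : F, ActsSL M.e V ⊥ t fun j => up ((Pi.single i b : Fin k → F) j)}
  mul_mem' := by
    rintro s t ⟨hs, b, h1⟩ ⟨ht, c, h2⟩
    refine ⟨mul_mem hs ht, b + c, fun v hv j => ?_, fun d hd => ?_⟩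
    · have e : s * t * v * (s * t)⁻¹ = s * (t * v * t⁻¹) * s⁻¹ := by group
      rw [e, h1.1 _ (hA.conj_mem (hA.TH ht) hv), h2.1 v hv, ← ap_mul, up_mul, ← Pi.add_apply, ← Pi.single_add]
    · rw [mul_assoc, h2.2 d hd, ← mul_assoc, h1.2 d hd, mul_assoc]
  one_mem' := ⟨one_mem T, 0, fun v _ j => by
    rw [one_mul, inv_one, mul_one, Pi.single_zero]
    change _ = ap (up 0) _
    rw [up_zero, ap_one], fun d _ => by rw [one_mul, mul_one]⟩
  inv_mem' := by
    rintro s ⟨hs, b, h1⟩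
    refine ⟨inv_mem hs, -b, fun v hv j => ?_, fun d hd => ?_⟩
    · set u := s⁻¹ * v * s⁻¹⁻¹ with hu
      have huV : u ∈ V := hA.conj_mem (hA.TH (inv_mem hs)) hv
      have e : v = s * u * s⁻¹ := by rw [hu]; group
      have h2 := h1.1 u huV j
      rw [e, h2, ← ap_mul, up_mul, Pi.single_neg, Pi.neg_apply, neg_add_cancel, up_zero, ap_one]
    · have h2 := h1.2 d hd
      calc s⁻¹ * d = s⁻¹ * (d * s) * s⁻¹ := by group
        _ = d * s⁻¹ := by rw [← h2]; group

theorem mem_Rt {i : Fin k} {t : G} : t ∈ Rt M hA i ↔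
    t ∈ T ∧ ∃ b : F, ActsSL M.e V ⊥ t fun j => up ((Pi.single i b : Fin k → F) j) := Iff.rfl

/-- an element of `Rt i` centralises `V` or exactly the elements with `v i 1 = 0`. -/
theorem Rt_comm {i : Fin k} {t : G} (ht : t ∈ Rt M hA i) (hne : ∃ u ∈ V, t * u ≠ u * t) {v : G} (hv : v ∈ V) :
    t * v = v * t ↔ M.e v i 1 = 0 := by
  obtain ⟨htT, b, hb⟩ := ht
  rw [comm_iff M hA (hA.TH htT) hb hv, single_mul i b fun j => M.e v j 1]
  constructor
  · intro h
    rcases mul_eq_zero.1 h with h1 | h1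
    · exfalso
      obtain ⟨u, hu, hu1⟩ := hne
      apply hu1
      rw [comm_iff M hA (hA.TH htT) hb hu, single_mul i b fun j => M.e u j 1, h1, zero_mul]
    · exact h1
  · intro h
    rw [h, mul_zero]

theorem Rt_comm' {i : Fin k} {t : G} (ht : t ∈ Rt M hA i) {v : G} (hv : v ∈ V) (h : M.e v i 1 = 0) :
    t * v = v * t := by
  by_contra hcon
  exact hcon ((Rt_comm M hA ht ⟨v, hv, hcon⟩ hv).2 h)

theorem exists_Rt (i : Fin k) (b : F) : ∃ t ∈ T, ActsSL M.e V ⊥ t fun j => up ((Pi.single i b : Fin k → F) j) :=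
  M.unip (Pi.single i b)

theorem Rt_elemM [CharP F 2] (i : Fin k) : ElemM V (Rt M hA i) := by
  have h2 : (2 : F) = 0 := by
    have := CharP.cast_eq_zero F 2
    simpa using this
  refine ⟨fun a ha => ?_, fun a ha b hb => ?_⟩
  · obtain ⟨haT, c, hc⟩ := ha
    rw [mem_centralizer_iff]
    intro v hv
    have h1 : a * (a * v * a⁻¹) * a⁻¹ = v := by
      refine inj M (hA.conj_mem (hA.TH haT) (hA.conj_mem (hA.TH haT) hv)) hv (funext fun j => ext2' ?_ ?_)
      · rw [act_0 M hA hc (hA.conj_mem (hA.TH haT) hv), act_1 M hA hc hv, act_0 M hA hc hv, add_assoc, ← two_mul,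
          h2, zero_mul, add_zero]
      · rw [act_1 M hA hc (hA.conj_mem (hA.TH haT) hv), act_1 M hA hc hv]
    calc v * a ^ 2 = a * (a * v * a⁻¹) * a⁻¹ * a ^ 2 := by rw [h1]
      _ = a ^ 2 * v := by rw [pow_two]; group
  · obtain ⟨haT, c, hc⟩ := ha
    obtain ⟨hbT, d, hd⟩ := hb
    rw [mem_centralizer_iff]
    intro v hv
    set u := (b * a)⁻¹ * v * (b * a) with hu
    have huV : u ∈ V := by
      have := hA.conj_mem (hA.TH (inv_mem (mul_mem hbT haT))) hv
      rwa [inv_inv] at this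
    have hVa' := hA.conj_mem (hA.TH haT) huV
    have hVb' := hA.conj_mem (hA.TH hbT) huV
    have h3 : a * (b * u * b⁻¹) * a⁻¹ = b * (a * u * a⁻¹) * b⁻¹ := by
      refine inj M (hA.conj_mem (hA.TH haT) hVb') (hA.conj_mem (hA.TH hbT) hVa') (funext fun j => ext2' ?_ ?_)
      · rw [act_0 M hA hc hVb', act_0 M hA hd hVa', act_1 M hA hd huV, act_1 M hA hc huV, act_0 M hA hd huV,
          act_0 M hA hc huV]
        ring
      · rw [act_1 M hA hc hVb', act_1 M hA hd hVa', act_1 M hA hd huV, act_1 M hA hc huV]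
    have h4 : b * (a * u * a⁻¹) * b⁻¹ = v := by rw [hu]; group
    have h5 : a * (b * u * b⁻¹) * a⁻¹ = a * b * a⁻¹ * b⁻¹ * v * (a * b * a⁻¹ * b⁻¹)⁻¹ := by rw [hu]; group
    rw [h4, h5] at h3
    calc v * (a * b * a⁻¹ * b⁻¹) = a * b * a⁻¹ * b⁻¹ * v * (a * b * a⁻¹ * b⁻¹)⁻¹ * (a * b * a⁻¹ * b⁻¹) := by
          rw [h3]
      _ = a * b * a⁻¹ * b⁻¹ * v := by group

/-- the root groups are offenders -/
theorem Rt_offM [CharP F 2] [Finite G] [Finite F] (i : Fin k) : OffM V (Rt M hA i) := by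
  classical
  have hex : ∃ v ∈ V, M.e v i 1 = 1 := by
    obtain ⟨v, hv, h⟩ := M.surj (Pi.single i ![0, 1])
    exact ⟨v, hv, by rw [h, Pi.single_eq_same]; rfl⟩
  obtain ⟨v1, hv1, hv1e⟩ := hex
  -- the parameter of `t ∈ Rt i`
  set f : G → F := fun t => M.e (t * v1 * t⁻¹) i 0 - M.e v1 i 0 with hf
  have hfb : ∀ t ∈ T, ∀ b : F, (ActsSL M.e V ⊥ t fun j => up ((Pi.single i b : Fin k → F) j)) → f t = b := by
    intro t ht b hb
    change M.e (t * v1 * t⁻¹) i 0 - M.e v1 i 0 = b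
    rw [act_0 M hA hb hv1, hv1e, Pi.single_eq_same, mul_one, add_sub_cancel_left]
  have hf0 : ∀ t ∈ Rt M hA i, f t = 0 ↔ t ∈ Rt M hA i ⊓ centralizer (V : Set G) := by
    intro t ht
    obtain ⟨htT, b, hb⟩ := ht
    rw [hfb t htT b hb]
    constructor
    · rintro rfl
      refine ⟨⟨htT, 0, hb⟩, mem_centralizer_iff.2 fun v hv => ?_⟩
      refine ((comm_iff M hA (hA.TH htT) hb hv).2 fun j => ?_).symm
      rw [Pi.single_zero, Pi.zero_apply, zero_mul]
    · rintro ⟨-, h1⟩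
      have h2 := (comm_iff M hA (hA.TH htT) hb hv1).1 (mem_centralizer_iff.1 h1 v1 hv1).symm i
      rwa [Pi.single_eq_same, hv1e, mul_one] at h2
  have h1 : Nat.card (Rt M hA i) = Nat.card ↥(Rt M hA i ⊓ centralizer (V : Set G)) * Nat.card F := by
    refine card_of_map inf_le_left f ?_ ?_ hf0
    · rintro s ⟨hs, b, hb⟩ t ⟨ht, c, hc⟩
      have h3 : (⟨hs, b, hb⟩ : s ∈ T ∧ ∃ b : F, ActsSL M.e V ⊥ s fun j => up ((Pi.single i b : Fin k → F) j)) =
        ⟨hs, b, hb⟩ := rfl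
      have h4 : ActsSL M.e V ⊥ (s * t) fun j => up ((Pi.single i (b + c) : Fin k → F) j) := by
        refine ⟨fun v hv j => ?_, fun d hd => ?_⟩
        · have e : s * t * v * (s * t)⁻¹ = s * (t * v * t⁻¹) * s⁻¹ := by group
          rw [e, hb.1 _ (hA.conj_mem (hA.TH ht) hv), hc.1 v hv, ← ap_mul, up_mul, ← Pi.add_apply, ← Pi.single_add]
        · rw [mul_assoc, hc.2 d hd, ← mul_assoc, hb.2 d hd, mul_assoc]
      rw [hfb _ (mul_mem hs ht) _ h4, hfb s hs b hb, hfb t ht c hc]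
    · intro c
      obtain ⟨t, ht, h3⟩ := exists_Rt M hA i c
      exact ⟨t, ⟨ht, c, h3⟩, hfb t ht c h3⟩
  have h2 : Nat.card V = Nat.card ↥(V ⊓ centralizer (Rt M hA i : Set G)) * Nat.card F := by
    refine card_of_map inf_le_left (fun v => M.e v i 1) ?_ ?_ ?_
    · intro v hv w hw
      change M.e (v * w) i 1 = M.e v i 1 + M.e w i 1
      rw [M.mul v hv w hw]
      rfl
    · intro c
      obtain ⟨v, hv, h⟩ := M.surj (Pi.single i ![0, c])
      exact ⟨v, hv, by rw [h, Pi.single_eq_same]; rfl⟩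
    · intro v hv
      constructor
      · intro h0
        exact ⟨hv, mem_centralizer_iff.2 fun t ht => Rt_comm' M hA ht hv h0⟩
      · rintro ⟨-, h0⟩
        obtain ⟨t, ht, h3⟩ := exists_Rt M hA i 1
        have h4 := (comm_iff M hA (hA.TH ht) h3 hv).1 (mem_centralizer_iff.1 h0 t ⟨ht, 1, h3⟩) i
        rwa [Pi.single_eq_same, one_mul] at h4
  refine ⟨Rt_elemM M hA i, fun h0 => ?_, ?_⟩
  · obtain ⟨t, ht, h3⟩ := exists_Rt M hA i 1
    have h4 := (comm_iff M hA (hA.TH ht) h3 hv1).1 (mem_centralizer_iff.1 (h0 ⟨ht, 1, h3⟩) v1 hv1).symm i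
    rw [Pi.single_eq_same, hv1e, mul_one] at h4
    exact one_ne_zero h4
  · rw [h1, h2]
    exact le_of_eq (by ring)

end basic

/-- **(6), natural modules.** -/
theorem fus [CharP F 2] [Finite G] [Finite F] {S : Sylow 2 G} {P : Subgroup G}
    (M : NatKM F (S : Subgroup G) P V ⊥ k) (hA : Amb (S : Subgroup G) P V) {z m : G} (hz : z ∈ zc (S : Subgroup G))
    (hz1 : z ≠ 1) (hm : m ∈ normalizer (V : Set G)) : ∃ l ∈ P, m * z * m⁻¹ = l * z * l⁻¹ := by
  classical
  have hzV : z ∈ V := hA.zc hz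
  have hPN : P ≤ normalizer (V : Set G) := hA.HV
  have hconj : ∀ n ∈ normalizer (V : Set G), ∀ v ∈ V, n * v * n⁻¹ ∈ V := fun n hn v hv =>
    (mem_normalizer_iff.1 hn v).1 hv
  -- `w` in the lines
  obtain ⟨g, hg, hgl⟩ := exists_line M.toNatK hA (hconj m hm z hzV)
  have hgm : g * m ∈ normalizer (V : Set G) := mul_mem (hPN hg) hm
  obtain ⟨n, hn, hnz, hnS⟩ := exists_conj_fix S (hA.TH.trans hPN)
    (fun s hs => (mem_zc.1 hz).2.1 s hs) hgm
  set w := g * m * z * (g * m)⁻¹ with hw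
  have hwV : w ∈ V := hconj _ hgm z hzV
  have hwl : ∀ i, M.e w i 1 = 0 := by
    intro i
    have e : w = g * (m * z * m⁻¹) * g⁻¹ := by rw [hw]; group
    rw [e]
    exact hgl i
  -- the conjugates of the root groups
  have hn' : n⁻¹ ∈ normalizer (V : Set G) := inv_mem hn
  have hmemS : ∀ i, ∀ t ∈ Rt M.toNatK hA i, n⁻¹ * t * n ∈ (S : Subgroup G) := by
    intro i t ht
    exact hnS t ht.1 (Rt_comm' M.toNatK hA ht hwV (hwl i))
  have hpi : ∀ i, ∃ j, ∀ t ∈ Rt M.toNatK hA i, ∃ b : F,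
      ActsSL M.e V ⊥ (n⁻¹ * t * n) fun l => up ((Pi.single j b : Fin k → F) l) := by
    intro i
    set B : Subgroup G := (Rt M.toNatK hA i).comap (MulAut.conj n).toMonoidHom with hB
    have hBm : ∀ x, x ∈ B ↔ n * x * n⁻¹ ∈ Rt M.toNatK hA i := fun x => Iff.rfl
    have hBS : B ≤ (S : Subgroup G) := by
      intro x hx
      have := hmemS i _ ((hBm x).1 hx)
      have e : n⁻¹ * (n * x * n⁻¹) * n = x := by group
      rwa [e] at this
    have hoff := offM_conj hn (Rt_offM M.toNatK hA i) hBm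
    obtain ⟨I, hI1, hI2⟩ := M.offM B hBS hoff
    -- strictness
    have hstrict : ∀ x ∈ B, ∀ y ∈ B, (∃ u ∈ V, x * u ≠ u * x) → ∀ v ∈ V, x * v = v * x → y * v = v * y := by
      intro x hx y hy hne v hv hxv
      obtain ⟨u, hu, hu1⟩ := hne
      have h1 : n * x * n⁻¹ * (n * v * n⁻¹) = n * v * n⁻¹ * (n * x * n⁻¹) := by
        calc n * x * n⁻¹ * (n * v * n⁻¹) = n * (x * v) * n⁻¹ := by group
          _ = n * v * n⁻¹ * (n * x * n⁻¹) := by rw [hxv]; group
      have h2 := (Rt_comm M.toNatK hA ((hBm x).1 hx) ⟨n * u * n⁻¹, hconj n hn u hu, fun h3 => hu1 (by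
        have h4 := congrArg (fun y => n⁻¹ * y * n) h3
        simpa [mul_assoc] using h4)⟩ (hconj n hn v hv)).1 h1
      have h5 := Rt_comm' M.toNatK hA ((hBm y).1 hy) (hconj n hn v hv) h2
      have h4 := congrArg (fun y => n⁻¹ * y * n) h5
      simpa [mul_assoc] using h4
    have hIne : I.Nonempty := by
      by_contra hemp
      rw [Set.not_nonempty_iff_eq_empty] at hemp
      refine hoff.ne fun x hx => mem_centralizer_iff.2 fun v hv => ?_
      obtain ⟨b, hb, hact⟩ := hI1 x hx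
      have hxP : x ∈ P := hA.TH (hBS hx)
      refine ((comm_iff M.toNatK hA hxP hact hv).2 fun j => ?_).symm
      rw [hb j (by rw [hemp]; exact Set.notMem_empty j), zero_mul]
    obtain ⟨j, hj⟩ := hIne
    have hIj : ∀ j' ∈ I, j' = j := by
      intro j' hj'
      by_contra hne
      obtain ⟨x, hx, hxa⟩ := hI2 (Pi.single j 1) fun i hi =>
        Pi.single_eq_of_ne (fun h : i = j => hi (by rw [h]; exact hj)) _
      obtain ⟨y, hy, hya⟩ := hI2 (Pi.single j' 1) fun i hi =>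
        Pi.single_eq_of_ne (fun h : i = j' => hi (by rw [h]; exact hj')) _
      have hxP : x ∈ P := hA.TH (hBS hx)
      have hyP : y ∈ P := hA.TH (hBS hy)
      obtain ⟨u, hu, hue⟩ := M.surj (Pi.single j ![0, 1])
      obtain ⟨v, hv, hve⟩ := M.surj (Pi.single j' ![0, 1])
      have h1 : x * u ≠ u * x := by
        intro h
        have h2 := (comm_iff M.toNatK hA hxP hxa hu).1 h j
        rw [hue, Pi.single_eq_same, Pi.single_eq_same, one_mul] at h2
        exact one_ne_zero h2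
      have h2 : x * v = v * x := by
        rw [comm_iff M.toNatK hA hxP hxa hv, single_mul j 1 fun l => M.e v l 1, hve, Pi.single_eq_of_ne (Ne.symm hne)]
        exact mul_zero _
      have h3 := hstrict x hx y hy ⟨u, hu, h1⟩ v hv h2
      have h4 := (comm_iff M.toNatK hA hyP hya hv).1 h3 j'
      rw [hve, Pi.single_eq_same, Pi.single_eq_same, one_mul] at h4
      exact one_ne_zero h4
    refine ⟨j, fun t ht => ?_⟩
    have htB : n⁻¹ * t * n ∈ B := by
      rw [hBm]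
      have e : n * (n⁻¹ * t * n) * n⁻¹ = t := by group
      rwa [e]
    obtain ⟨b, hb, hact⟩ := hI1 _ htB
    refine ⟨b j, ?_⟩
    have e : b = Pi.single j (b j) := by
      funext l
      by_cases hl : l = j
      · subst hl; rw [Pi.single_eq_same]
      · rw [Pi.single_eq_of_ne hl]
        exact hb l fun h => hl (hIj l h)
    rw [e] at hact
    exact hact
  choose π hπ using hpi
  -- the coordinates of the conjugates
  have hsec : ∀ x : Fin k → Fin 2 → F, ∃ v ∈ V, M.e v = x := M.surj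
  choose ε hεV hεe using hsec
  have hεadd : ∀ x y, ε (x + y) = ε x * ε y := fun x y =>
    inj M.toNatK (hεV _) (mul_mem (hεV _) (hεV _)) (by rw [M.mul _ (hεV _) _ (hεV _), hεe, hεe, hεe])
  have hεe' : ∀ v ∈ V, ε (M.e v) = v := fun v hv => inj M.toNatK (hεV _) hv (hεe _)
  have hcV : ∀ v ∈ V, n⁻¹ * v * n ∈ V := fun v hv => by
    have := hconj n⁻¹ hn' v hv
    rwa [inv_inv] at this
  let θ : (Fin k → Fin 2 → F) →+ (Fin k → Fin 2 → F) := AddMonoidHom.mk' (fun x => M.e (n⁻¹ * ε x * n)) (by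
    intro x y
    have e : n⁻¹ * ε (x + y) * n = (n⁻¹ * ε x * n) * (n⁻¹ * ε y * n) := by rw [hεadd]; group
    change M.e (n⁻¹ * ε (x + y) * n) = _
    rw [e, M.mul _ (hcV _ (hεV _)) _ (hcV _ (hεV _))])
  have hθ : ∀ x, θ x = M.e (n⁻¹ * ε x * n) := fun x => rfl
  have hzw : M.e z = θ (M.e w) := by
    rw [hθ, hεe' w hwV]
    congr 1
    calc z = n⁻¹ * (n * z * n⁻¹) * n := by group
      _ = n⁻¹ * w * n := by rw [hnz]
  have hθs : ∀ i (y : Fin 2 → F), y 1 = 0 → ∀ l, l ≠ π i → θ (Pi.single i y) l = 0 := by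
    intro i y hy l hl
    obtain ⟨t, ht, hta⟩ := exists_Rt M.toNatK hA i (y 0)
    obtain ⟨v, hv, hve⟩ := M.surj (Pi.single i ![0, 1])
    have htP : t ∈ P := hA.TH ht
    have h1 : ε (Pi.single i y) = t * v * t⁻¹ * v⁻¹ := by
      refine inj M.toNatK (hεV _) (mul_mem (hA.conj_mem htP hv) (inv_mem hv)) ?_
      rw [hεe, M.mul _ (hA.conj_mem htP hv) _ (inv_mem hv), e_inv M.toNatK hv]
      funext j
      rw [Pi.add_apply, Pi.neg_apply]
      by_cases hj : j = i
      · subst hj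
        rw [Pi.single_eq_same]
        refine ext2' ?_ ?_
        · rw [Pi.add_apply, Pi.neg_apply, act_0 M.toNatK hA hta hv, hve, Pi.single_eq_same, Pi.single_eq_same]
          simp
        · rw [Pi.add_apply, Pi.neg_apply, act_1 M.toNatK hA hta hv, hy, add_neg_cancel]
      · rw [Pi.single_eq_of_ne hj]
        refine ext2' ?_ ?_
        · rw [Pi.add_apply, Pi.neg_apply, act_0 M.toNatK hA hta hv, hve, Pi.single_eq_of_ne hj,
            Pi.single_eq_of_ne hj]
          simp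
        · rw [Pi.add_apply, Pi.neg_apply, act_1 M.toNatK hA hta hv, add_neg_cancel]
          rfl
    obtain ⟨b, hb⟩ := hπ i t ⟨ht, y 0, hta⟩
    have hv' := hcV v hv
    have ht' : n⁻¹ * t * n ∈ P := hA.TH (hmemS i t ⟨ht, y 0, hta⟩)
    have h2 : n⁻¹ * ε (Pi.single i y) * n =
        (n⁻¹ * t * n) * (n⁻¹ * v * n) * (n⁻¹ * t * n)⁻¹ * (n⁻¹ * v * n)⁻¹ := by rw [h1]; group
    rw [hθ, h2, M.mul _ (hA.conj_mem ht' hv') _ (inv_mem hv'), e_inv M.toNatK hv', Pi.add_apply, Pi.neg_apply,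
      hb.1 _ hv' l]
    beta_reduce
    rw [Pi.single_eq_of_ne hl, up_zero, ap_one, add_neg_cancel]
  have hsupp : ∀ l, ∃ i, π i = l ∧ M.e w i ≠ 0 := by
    intro l
    by_contra hcon
    push Not at hcon
    apply zc_ne M.toNatK hA hz hz1 l
    rw [hzw, ← Finset.univ_sum_single (M.e w), map_sum, Finset.sum_apply]
    refine Finset.sum_eq_zero fun i _ => ?_
    by_cases h0 : M.e w i = 0
    · rw [h0, Pi.single_zero, map_zero]
      rfl
    · exact hθs i _ (hwl i) l fun h => h0 (hcon i h.symm)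
  have hsurj : Function.Surjective π := fun l => by
    obtain ⟨i, hi, -⟩ := hsupp l
    exact ⟨i, hi⟩
  have hinj : Function.Injective π := Finite.injective_iff_surjective.2 hsurj
  have hfull : ∀ i, M.e w i ≠ 0 := by
    intro i
    obtain ⟨i', hi', h⟩ := hsupp (π i)
    rwa [hinj hi'] at h
  obtain ⟨l, hl, hlz⟩ := exists_conj M.toNatK hA hzV hwV (zc_ne M.toNatK hA hz hz1) hfull
  refine ⟨g⁻¹ * l, mul_mem (inv_mem hg) hl, ?_⟩
  calc m * z * m⁻¹ = g⁻¹ * w * g := by rw [hw]; group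
    _ = g⁻¹ * l * z * (g⁻¹ * l)⁻¹ := by rw [← hlz]; group

end Cfsg.Agent.Omega.NOThreeL.VF.Nat
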