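import Cfsg.Agent.Omega.NOThreeL.VF.Split
import Cfsg.Agent.Omega.IId.Fac

/-!
# THEOREM VF, (2)-(5) for a sum of natural `SL₂(F)`-modules
-/

set_option autoImplicit false

namespace Cfsg.Agent.Omega.NOThreeL.VF.Q

open Subgroup Cfsg Cfsg.Agent.Omega.FFThm Cfsg.Agent.ZN Cfsg.Agent.ZN.ChoiceBase Cfsg.Agent.Omega.IId
open Cfsg.Agent.Lib.SL2Mat
open Cfsg.Agent.Omega.NatPair (ap ap_mul ap_one ap_inv_ap ap_ap_inv ext2 ap_zero' ap_one')

universe u

variable {G : Type u} [Group G] {F : Type} [Field F] {T P : Subgroup G} {k : ℕ}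
  (M : NatK F T P (zl T P) ⊥ k)

section act

variable {M}

/-- The coordinates of `[g, v]`. -/
theorem e_k {g v : G} (hg : g ∈ P) (hv : v ∈ zl T P) {A : Fin k → Matrix.SpecialLinearGroup (Fin 2) F}
    (hA : ActsSL M.e (zl T P) ⊥ g A) (i : Fin k) : M.e (Q.k g v) i = ap (A i) (M.e v i) - M.e v i := by
  rw [k_def, M.mul _ (cj_mem hg hv) _ (inv_mem hv), Pi.add_apply, hA.1 v hv i, e_inv M hv, Pi.neg_apply,
    sub_eq_add_neg]

theorem k_mem {g v : G} (hg : g ∈ P) (hv : v ∈ zl T P) : Q.k g v ∈ zl T P :=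
  mul_mem (cj_mem hg hv) (inv_mem hv)

theorem k_eq_one_iff {g v : G} (hg : g ∈ P) (hv : v ∈ zl T P) {A : Fin k → Matrix.SpecialLinearGroup (Fin 2) F}
    (hA : ActsSL M.e (zl T P) ⊥ g A) : Q.k g v = 1 ↔ ∀ i, ap (A i) (M.e v i) = M.e v i := by
  rw [← e_eq_zero M (k_mem hg hv)]
  constructor
  · intro h i
    have := congrFun h i
    rw [e_k hg hv hA, Pi.zero_apply, sub_eq_zero] at this
    exact this
  · intro h
    funext i
    rw [e_k hg hv hA, h i, sub_self]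
    rfl

/-- Two elements with the same action on `V` differ by an element of `C(V)`. -/
theorem mem_cent_of_acts {g h : G} (hg : g ∈ P) (hh : h ∈ P) {A : Fin k → Matrix.SpecialLinearGroup (Fin 2) F}
    (hA : ActsSL M.e (zl T P) ⊥ g A) (hB : ActsSL M.e (zl T P) ⊥ h A) {v : G} (hv : v ∈ zl T P) :
    Q.k (g⁻¹ * h) v = 1 := by
  rw [k_eq_one_iff (mul_mem (inv_mem hg) hh) hv (acts_mul hh (acts_inv hg hA) hB)]
  intro i
  rw [Pi.mul_apply, Pi.inv_apply, inv_mul_cancel, ap_one]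

end act

section root

variable [CharP F 2] [DecidableEq (Fin k)]

omit [CharP F 2] in
/-- The coordinates of `[a b, v]`. -/
theorem e_root {i₀ : Fin k} {a : F → G} (haP : ∀ b, a b ∈ P)
    (ha : ∀ b, ActsSL M.e (zl T P) ⊥ (a b) fun i => up ((Pi.single i₀ b : Fin k → F) i)) (b : F) {v : G}
    (hv : v ∈ zl T P) (i : Fin k) :
    M.e (Q.k (a b) v) i 0 = (Pi.single i₀ b : Fin k → F) i * M.e v i 1 ∧ M.e (Q.k (a b) v) i 1 = 0 := by
  rw [e_k (haP b) hv (ha b) i, Pi.sub_apply, Pi.sub_apply, ap_zero', ap_one']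
  simp only [up_00, up_01, up_10, up_11]
  exact ⟨by ring, by ring⟩

omit [CharP F 2] in
theorem e_root_same {i₀ : Fin k} {a : F → G} (haP : ∀ b, a b ∈ P)
    (ha : ∀ b, ActsSL M.e (zl T P) ⊥ (a b) fun i => up ((Pi.single i₀ b : Fin k → F) i)) (b : F) {v : G}
    (hv : v ∈ zl T P) : M.e (Q.k (a b) v) i₀ 0 = b * M.e v i₀ 1 := by
  rw [(e_root M haP ha b hv i₀).1, Pi.single_eq_same]

omit [CharP F 2] in
theorem root_eq_one {i₀ : Fin k} {a : F → G} (haP : ∀ b, a b ∈ P)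
    (ha : ∀ b, ActsSL M.e (zl T P) ⊥ (a b) fun i => up ((Pi.single i₀ b : Fin k → F) i)) (b : F) {v : G}
    (hv : v ∈ zl T P) : Q.k (a b) v = 1 ↔ b * M.e v i₀ 1 = 0 := by
  rw [← e_root_same M haP ha b hv]
  constructor
  · intro h
    rw [h, e_one]; rfl
  · intro h
    rw [← e_eq_zero M (k_mem (haP b) hv)]
    funext i
    apply ext2
    · rw [(e_root M haP ha b hv i).1]
      by_cases hi : i = i₀
      · subst hi
        rw [e_root_same M haP ha b hv] at h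
        rw [Pi.single_eq_same, h]; rfl
      · rw [Pi.single_eq_of_ne hi, zero_mul]; rfl
    · rw [(e_root M haP ha b hv i).2]; rfl

omit [CharP F 2] in
/-- An element of `V` such that the coordinate `(i₀, 1)` of all its conjugates vanishes is trivial. -/
theorem eq_one_of_ker (TP : T ≤ P) (i₀ : Fin k) {u : G} (hu : u ∈ zl T P)
    (h : ∀ p ∈ P, M.e (p * u * p⁻¹) i₀ 1 = 0) : u = 1 := by
  obtain ⟨ω, hω, hωA⟩ := M.lift (Function.update 1 i₀ (wm 1 one_ne_zero))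
  have h1 : ∀ p ∈ P, M.e (p * u * p⁻¹) i₀ = 0 := by
    intro p hp
    have h2 := h (ω * p) (mul_mem hω hp)
    have e : ω * p * u * (ω * p)⁻¹ = ω * (p * u * p⁻¹) * ω⁻¹ := by group
    rw [e, hωA.1 _ (cj_mem hp hu) i₀, Function.update_self, ap_one', wm_10, wm_11] at h2
    apply ext2
    · simpa using h2
    · exact h p hp
  rw [← e_eq_zero M hu]
  funext j
  obtain ⟨t, ht, h3⟩ := M.trans j i₀
  exact (h3 u hu).1 (h1 t (TP ht))

/-- The root group of the factor `i₀`. -/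
structure RG (A : Subgroup G) (i₀ : Fin k) (a : F → G) (ω : G) : Prop where
  mem : ∀ b, a b ∈ A
  acts : ∀ b, ActsSL M.e (zl T P) ⊥ (a b) fun i => up ((Pi.single i₀ b : Fin k → F) i)
  wP : ω ∈ P
  wA : ActsSL M.e (zl T P) ⊥ ω (Function.update 1 i₀ (wm 1 one_ne_zero))

omit [CharP F 2] in
theorem rootM {M₀ W A : Subgroup G} (s : Sit M₀ W (zl T P)) (PM : P ≤ M₀) {i₀ : Fin k} {a : F → G} {ω : G}
    (R : RG M A i₀ a ω) (hA : A ≤ P) (hsplit : ∀ w ∈ W, ∃ v ∈ zl T P, v⁻¹ * w ∈ centralizer (A : Set G)) :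
    RootM M₀ W (zl T P) F a (ω * a 1 * ω⁻¹) fun v => M.e v i₀ 1 := by
  have haP : ∀ b, a b ∈ P := fun b => hA (R.mem b)
  have haW : ∀ b, ∀ w ∈ W, Q.k (a b) w ∈ zl T P := by
    intro b w hw
    obtain ⟨v, hv, hc⟩ := hsplit w hw
    have e : w = v * (v⁻¹ * w) := by group
    have h1 : Q.k (a b) (v⁻¹ * w) = 1 := k_eq_one.2 (mem_centralizer_iff.1 hc _ (R.mem b))
    rw [e, s.k_mul_right (PM (haP b)) (s.VW hv) (W.mul_mem (W.inv_mem (s.VW hv)) hw), h1, mul_one]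
    exact k_mem (haP b) hv
  have hlP : ω * a 1 * ω⁻¹ ∈ P := mul_mem (mul_mem R.wP (haP 1)) (inv_mem R.wP)
  refine
  { mem := fun b => PM (haP b)
    aW := haW
    lM := PM hlP
    lW := fun w hw => ?_
    f_mul := fun u hu v hv => by
      rw [M.mul u hu v hv]; rfl
    add := fun b b' v hv => ?_
    zero := fun v hv h b => (root_eq_one M haP R.acts b hv).2 (by
      have h' : M.e v i₀ 1 = 0 := h
      rw [h', mul_zero])
    inj := fun b hb v hv h => by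
      rcases mul_eq_zero.1 ((root_eq_one M haP R.acts b hv).1 h) with h1 | h1
      · exact absurd h1 hb
      · exact h1
    disj := fun b c v hv v' hv' h => ?_ }
  · have e : w = ω * (ω⁻¹ * w * ω) * ω⁻¹ := by group
    rw [e, k_cj]
    refine cj_mem R.wP (haW 1 _ ?_)
    have := s.cj_mem (M₀.inv_mem (PM R.wP)) hw
    rwa [inv_inv] at this
  · refine e_inj M (k_mem (haP _) hv) (mul_mem (k_mem (haP _) hv) (k_mem (haP _) hv)) ?_
    rw [M.mul _ (k_mem (haP _) hv) _ (k_mem (haP _) hv)]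
    funext i
    rw [Pi.add_apply]
    apply ext2
    · rw [Pi.add_apply, (e_root M haP R.acts _ hv i).1, (e_root M haP R.acts _ hv i).1,
        (e_root M haP R.acts _ hv i).1, Pi.single_add, Pi.add_apply]
      ring
    · rw [Pi.add_apply, (e_root M haP R.acts _ hv i).2, (e_root M haP R.acts _ hv i).2,
        (e_root M haP R.acts _ hv i).2, add_zero]
  · -- the coordinates of `l [a c, v'] l⁻¹`
    have hu : Q.k (a c) v' ∈ zl T P := k_mem (haP c) hv'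
    obtain ⟨hu0, hu1⟩ := e_root M haP R.acts c hv' i₀
    have e : ω * a 1 * ω⁻¹ * Q.k (a c) v' * (ω * a 1 * ω⁻¹)⁻¹ =
        ω * (a 1 * (ω⁻¹ * Q.k (a c) v' * ω) * (a 1)⁻¹) * ω⁻¹ := by group
    have h1 : ω⁻¹ * Q.k (a c) v' * ω ∈ zl T P := cj_mem' R.wP hu
    have h2 : M.e (Q.k (a c) v') i₀ = ap (wm (1 : F) one_ne_zero) (M.e (ω⁻¹ * Q.k (a c) v' * ω) i₀) := by
      have := R.wA.1 _ h1 i₀
      rw [Function.update_self] at this
      rw [← this]
      congr 2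
      group
    -- `x = (0, - y)` where `y` is the coordinate
    have h3 : M.e (ω⁻¹ * Q.k (a c) v' * ω) i₀ 0 = 0 := by
      have h4 := congrFun h2 1
      rw [hu1, ap_one', wm_10, wm_11] at h4
      simpa using h4.symm
    have h5 : M.e (ω⁻¹ * Q.k (a c) v' * ω) i₀ 1 = M.e (Q.k (a c) v') i₀ 0 := by
      have h4 := congrFun h2 0
      rw [ap_zero', wm_00, wm_01] at h4
      rw [h4]; ring
    have h6 : M.e (a 1 * (ω⁻¹ * Q.k (a c) v' * ω) * (a 1)⁻¹) i₀ 0 = M.e (Q.k (a c) v') i₀ 0 := by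
      rw [(R.acts 1).1 _ h1 i₀, ap_zero', up_00, up_01, Pi.single_eq_same, h3, h5]
      ring
    have h7 : M.e (Q.k (a b) v) i₀ 1 = - M.e (Q.k (a c) v') i₀ 0 := by
      rw [h, e, R.wA.1 _ (cj_mem (haP 1) h1) i₀, Function.update_self, ap_one', wm_10, wm_11, h6]
      simp
    rw [(e_root M haP R.acts b hv i₀).2] at h7
    have h8 : M.e (Q.k (a c) v') i₀ 0 = 0 := by
      rw [zero_eq_neg] at h7
      exact h7
    rw [e_root_same M haP R.acts c hv'] at h8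
    have h9 := (root_eq_one M haP R.acts c hv').2 h8
    rw [h, h9]; group

variable {M}

/-- The element of `SL₂(F)^k` with one component. -/
abbrev upd (i₀ : Fin k) (A : Matrix.SpecialLinearGroup (Fin 2) F) :
    Fin k → Matrix.SpecialLinearGroup (Fin 2) F := Function.update 1 i₀ A

omit [CharP F 2] in
theorem upd_self {i₀ : Fin k} {A : Matrix.SpecialLinearGroup (Fin 2) F} : upd i₀ A i₀ = A :=
  Function.update_self _ _ _

omit [CharP F 2] in
theorem upd_ne {i₀ i : Fin k} {A : Matrix.SpecialLinearGroup (Fin 2) F} (h : i ≠ i₀) : upd i₀ A i = 1 :=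
  Function.update_of_ne h _ _

omit [CharP F 2] in
theorem up_single {i₀ : Fin k} (b : F) :
    (fun i => up ((Pi.single i₀ b : Fin k → F) i)) = upd i₀ (up b) := by
  funext i
  by_cases hi : i = i₀
  · subst hi
    rw [Pi.single_eq_same, upd_self]
  · rw [Pi.single_eq_of_ne hi, upd_ne hi, up_zero]

omit [CharP F 2] in
theorem update_mul_update {i₀ : Fin k} (A B : Matrix.SpecialLinearGroup (Fin 2) F) :
    upd i₀ A * upd i₀ B = upd i₀ (A * B) := by
  funext i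
  by_cases hi : i = i₀
  · subst hi
    rw [Pi.mul_apply, upd_self, upd_self, upd_self]
  · rw [Pi.mul_apply, upd_ne hi, upd_ne hi, upd_ne hi, mul_one]

omit [CharP F 2] in
theorem update_inv {i₀ : Fin k} (A : Matrix.SpecialLinearGroup (Fin 2) F) :
    (upd i₀ A)⁻¹ = upd i₀ A⁻¹ := by
  funext i
  by_cases hi : i = i₀
  · subst hi
    rw [Pi.inv_apply, upd_self, upd_self]
  · rw [Pi.inv_apply, upd_ne hi, upd_ne hi, inv_one]

variable [Finite G] [Finite F] {M₀ W A : Subgroup G} {i₀ : Fin k} {a : F → G} {ω : G}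

omit [CharP F 2] in
/-- `W = V C_W(SL₂(F)^{i₀})` -/
theorem split_grp (c : Core T P M₀ W (zl T P) F a (ω * a 1 * ω⁻¹) fun v => M.e v i₀ 1)
    (R : RG M A i₀ a ω) (hA : A ≤ P) (hsplit : ∀ w ∈ W, ∃ v ∈ zl T P, v⁻¹ * w ∈ centralizer (A : Set G))
    {w : G} (hw : w ∈ W) : ∃ v ∈ zl T P, v⁻¹ * w ∈ centralizer (grp M {i₀} : Set G) := by
  have haP : ∀ b, a b ∈ P := fun b => hA (R.mem b)
  obtain ⟨v₁, hv₁, hc₁⟩ := hsplit w hw
  obtain ⟨v₂, hv₂, hc₂⟩ := hsplit _ (c.cjW' R.wP hw)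
  have hv₂' : ω * v₂ * ω⁻¹ ∈ zl T P := cj_mem R.wP hv₂
  obtain ⟨v, hv, hev⟩ := M.surj fun _ => ![M.e (ω * v₂ * ω⁻¹) i₀ 0, M.e v₁ i₀ 1]
  have hev' : M.e v i₀ = ![M.e (ω * v₂ * ω⁻¹) i₀ 0, M.e v₁ i₀ 1] := congrFun hev i₀
  have huW : v⁻¹ * w ∈ W := W.mul_mem (W.inv_mem (c.VW hv)) hw
  refine ⟨v, hv, ?_⟩
  -- the upper root group
  have h1 : ∀ b, Q.k (a b) (v⁻¹ * w) = 1 := by
    intro b
    have e : v⁻¹ * w = (v⁻¹ * v₁) * (v₁⁻¹ * w) := by group
    have hx : v⁻¹ * v₁ ∈ zl T P := mul_mem (inv_mem hv) hv₁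
    have hy : v₁⁻¹ * w ∈ W := W.mul_mem (W.inv_mem (c.VW hv₁)) hw
    have h2 : Q.k (a b) (v₁⁻¹ * w) = 1 := k_eq_one.2 (mem_centralizer_iff.1 hc₁ _ (R.mem b))
    have h3 : Q.k (a b) (v⁻¹ * v₁) = 1 := by
      rw [root_eq_one M haP R.acts b hx, M.mul _ (inv_mem hv) _ hv₁, e_inv M hv, Pi.add_apply,
        Pi.add_apply, Pi.neg_apply, Pi.neg_apply, hev']
      simp
    rw [e, c.k_mul_right (c.PM (haP b)) (c.VW hx) hy, h2, h3, one_mul]
  -- the lower root group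
  have h2 : ∀ b, Q.k (ω * a b * ω⁻¹) (v⁻¹ * w) = 1 := by
    intro b
    have hx : v⁻¹ * (ω * v₂ * ω⁻¹) ∈ zl T P := mul_mem (inv_mem hv) hv₂'
    have hx' : ω⁻¹ * (v⁻¹ * (ω * v₂ * ω⁻¹)) * ω ∈ zl T P := cj_mem' R.wP hx
    have e : v⁻¹ * w = ω * ((ω⁻¹ * (v⁻¹ * (ω * v₂ * ω⁻¹)) * ω) * (v₂⁻¹ * (ω⁻¹ * w * ω))) * ω⁻¹ := by group
    have hy : v₂⁻¹ * (ω⁻¹ * w * ω) ∈ W := W.mul_mem (W.inv_mem (c.VW hv₂)) (c.cjW' R.wP hw)
    have h3 : Q.k (a b) (v₂⁻¹ * (ω⁻¹ * w * ω)) = 1 := k_eq_one.2 (mem_centralizer_iff.1 hc₂ _ (R.mem b))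
    have h4 : Q.k (a b) (ω⁻¹ * (v⁻¹ * (ω * v₂ * ω⁻¹)) * ω) = 1 := by
      rw [root_eq_one M haP R.acts b hx']
      have h5 := R.wA.1 _ hx' i₀
      rw [Function.update_self] at h5
      have h6 := congrFun h5 0
      rw [ap_zero', wm_00, wm_01, zero_mul, zero_add, one_mul] at h6
      have e2 : ω * (ω⁻¹ * (v⁻¹ * (ω * v₂ * ω⁻¹)) * ω) * ω⁻¹ = v⁻¹ * (ω * v₂ * ω⁻¹) := by group
      rw [← h6, e2, M.mul _ (inv_mem hv) _ hv₂', e_inv M hv, Pi.add_apply,
        Pi.add_apply, Pi.neg_apply, Pi.neg_apply, hev']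
      simp
    rw [e, k_cj, c.k_mul_right (c.PM (haP b)) (c.VW hx') hy, h3, h4]
    group
  -- all of `SL₂(F)`
  have h3 : ∀ b, ∃ h ∈ P, Q.k h (v⁻¹ * w) = 1 ∧ ActsSL M.e (zl T P) ⊥ h (upd i₀ (up b)) :=
    fun b => ⟨a b, haP b, h1 b, by rw [← up_single]; exact R.acts b⟩
  have h4 : ∀ b, ∃ h ∈ P, Q.k h (v⁻¹ * w) = 1 ∧ ActsSL M.e (zl T P) ⊥ h (upd i₀ (lo b)) := by
    intro b
    refine ⟨ω * a (-b) * ω⁻¹, mul_mem (mul_mem R.wP (haP _)) (inv_mem R.wP), h2 _, ?_⟩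
    have h5 := acts_mul (inv_mem R.wP) (acts_mul (haP (-b)) R.wA (R.acts (-b))) (acts_inv R.wP R.wA)
    rw [up_single, update_inv, update_mul_update, update_mul_update, wm_up, mul_inv_cancel_right] at h5
    simpa using h5
  have hm : ∀ {x y : G}, x ∈ P → y ∈ P → Q.k x (v⁻¹ * w) = 1 → Q.k y (v⁻¹ * w) = 1 →
      Q.k (x * y) (v⁻¹ * w) = 1 := by
    intro x y _ _ hx hy
    rw [k_eq_one] at hx hy ⊢
    rw [mul_assoc, hy, ← mul_assoc, hx, mul_assoc]
  rw [mem_centralizer_iff]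
  rintro g ⟨hg, B, hB, hB'⟩
  obtain ⟨x, y, z, t, hxyzt⟩ := exists_up_lo (B i₀)
  obtain ⟨h5, h5P, h5c, h5A⟩ := h3 x
  obtain ⟨h6, h6P, h6c, h6A⟩ := h4 y
  obtain ⟨h7, h7P, h7c, h7A⟩ := h3 z
  obtain ⟨h8, h8P, h8c, h8A⟩ := h4 t
  have hBe : B = upd i₀ (up x * lo y * up z * lo t) := by
    funext i
    by_cases hi : i = i₀
    · subst hi
      rw [upd_self, hxyzt]
    · rw [upd_ne hi, hB' i (by simpa using hi)]
  have hP' : h5 * h6 * h7 * h8 ∈ P := mul_mem (mul_mem (mul_mem h5P h6P) h7P) h8P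
  have hact := acts_mul h8P (acts_mul h7P (acts_mul h6P h5A h6A) h7A) h8A
  rw [update_mul_update, update_mul_update, update_mul_update, ← hBe] at hact
  have hcc : Q.k (h5 * h6 * h7 * h8) (v⁻¹ * w) = 1 :=
    hm (mul_mem (mul_mem h5P h6P) h7P) h8P (hm (mul_mem h5P h6P) h7P (hm h5P h6P h5c h6c) h7c) h8c
  have hdd : Q.k ((h5 * h6 * h7 * h8)⁻¹ * g) (v⁻¹ * w) = 1 :=
    c.comm (c.PM (mul_mem (inv_mem hP') hg)) (fun v hv => mem_cent_of_acts hP' hg hact hB hv) huW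
  have hee := hm hP' (mul_mem (inv_mem hP') hg) hcc hdd
  rw [mul_inv_cancel_left] at hee
  exact k_eq_one.1 hee

end root

/-! ### The end -/

open Classical in
/-- **THEOREM VF, (2)-(5), natural `SL₂(F)`-modules.** -/
theorem nat_le [Finite G] [Finite F] [CharP F 2] (M : NatKM F T P (zl T P) ⊥ k) {M₀ W A : Subgroup G}
    (s : Sit M₀ W (zl T P)) (hT : IsPGroup 2 T) (TP : T ≤ P) (PM : P ≤ M₀) (WT : W ≤ T) (no : NoOverM W M₀)
    (noP : NoOverM (zl T P) P) (hAT : A ≤ T) (off : OffM W A) (hne : ¬ A ≤ centralizer (zl T P : Set G))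
    (hAC : A ⊓ centralizer (zl T P : Set G) ≤ centralizer (W : Set G)) : W ≤ zl T P := by
  have offV := s.offM_of off hne hAC
  have hAP : A ≤ P := hAT.trans TP
  have hsplit : ∀ w ∈ W, ∃ v ∈ zl T P, v⁻¹ * w ∈ centralizer (A : Set G) := fun w hw =>
    s.exists_split off hAC (noP A hAP offV.toElemM) hw
  obtain ⟨I, hI1, hI2⟩ := M.offM A hAT offV
  obtain ⟨i₀, hi₀⟩ : I.Nonempty := by
    by_contra hcon
    rw [Set.not_nonempty_iff_eq_empty] at hcon
    subst hcon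
    apply hne
    intro x hx
    obtain ⟨b, hb, hact⟩ := hI1 x hx
    rw [mem_centralizer_iff]
    intro v hv
    have h1 : Q.k x v = 1 := by
      rw [k_eq_one_iff (M := M.toNatK) (hAP hx) hv hact]
      intro i
      rw [hb i (Set.notMem_empty i), up_zero, ap_one]
    exact (k_eq_one.1 h1).symm
  have hex : ∀ b : F, ∃ x ∈ A, ActsSL M.e (zl T P) ⊥ x fun i => up ((Pi.single i₀ b : Fin k → F) i) := by
    intro b
    refine hI2 (Pi.single i₀ b) fun i hi => ?_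
    have hne' : i ≠ i₀ := fun h => hi (by rw [h]; exact hi₀)
    rw [Pi.single_eq_of_ne hne']
  choose a haA haact using hex
  obtain ⟨ω, hω, hωA⟩ := M.lift (Function.update 1 i₀ (wm 1 one_ne_zero))
  have R : RG M.toNatK A i₀ a ω := ⟨haA, haact, hω, hωA⟩
  have c : Core T P M₀ W (zl T P) F a (ω * a 1 * ω⁻¹) fun v => M.e v i₀ 1 :=
    { toSit := s
      two := hT
      TP := TP
      PM := PM
      nV := MinSimple.VModule.le_normalizer_zl T P
      WT := WT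
      zV := MinSimple.VModule.zc_le_zl T P
      no := no
      one_lt := Finite.one_lt_card
      root := rootM M.toNatK s PM R hAP hsplit
      aP := fun b => hAP (haA b)
      lP := mul_mem (mul_mem hω (hAP (haA 1))) (inv_mem hω)
      ker := fun u hu h => eq_one_of_ker M.toNatK TP i₀ hu h }
  refine c.le (fun i => grp M.toNatK {i}) (fun i w hw => ?_) (fun y hy => ?_) (fun p hp b => ?_)
  · obtain ⟨t, ht, htf⟩ := exists_trans M.toNatK TP i₀ i
    obtain ⟨v, hv, hc⟩ := split_grp c R hAP hsplit (c.cjW' (TP ht) hw)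
    refine ⟨t * v * t⁻¹, c.cjV (TP ht) hv, ?_⟩
    have hg : cj t (grp M.toNatK {i₀}) = grp M.toNatK {i} := by
      rw [conj_grp M.toNatK (TP ht), Set.image_singleton, (sg_eq_iff M.toNatK (TP ht)).2 htf]
    rw [mem_centralizer_iff]
    intro x hx
    rw [← hg] at hx
    have hx' : t⁻¹ * x * t ∈ grp M.toNatK {i₀} := mem_cj.1 hx
    have h1 := mem_centralizer_iff.1 hc _ hx'
    calc x * ((t * v * t⁻¹)⁻¹ * w) = t * (t⁻¹ * x * t * (v⁻¹ * (t⁻¹ * w * t))) * t⁻¹ := by group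
      _ = t * (v⁻¹ * (t⁻¹ * w * t) * (t⁻¹ * x * t)) * t⁻¹ := by rw [h1]
      _ = (t * v * t⁻¹)⁻¹ * w * x := by group
  · obtain ⟨v, hv, hev⟩ := M.surj fun i => M.e (y i) i
    refine ⟨v, hv, fun i => ?_⟩
    have h1 : v⁻¹ * y i ∈ part M.toNatK {i}ᶜ := by
      refine ⟨mul_mem (inv_mem hv) (hy i), fun j hj => ?_⟩
      have hj' : j = i := by simpa using hj
      rw [hj', M.mul _ (inv_mem hv) _ (hy i), e_inv M.toNatK hv, Pi.add_apply, Pi.neg_apply, hev,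
        neg_add_cancel]
    rw [mem_centralizer_iff]
    intro g hg
    exact grp_comm M.toNatK disjoint_compl_right hg h1
  · refine ⟨sg M.toNatK hp i₀, ?_⟩
    have h1 : a b ∈ grp M.toNatK {i₀} := by
      refine ⟨hAP (haA b), _, haact b, fun i hi => ?_⟩
      rw [Pi.single_eq_of_ne (by simpa using hi), up_zero]
    have h2 := conj_grp M.toNatK hp {i₀}
    rw [Set.image_singleton] at h2
    rw [← h2, mem_cj]
    have e : p⁻¹ * (p * a b * p⁻¹) * p = a b := by group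
    rw [e]
    exact h1

end Cfsg.Agent.Omega.NOThreeL.VF.Q
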