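import Cfsg.Agent.Omega.NOThreeL.VF.Lem2
import Cfsg.Agent.Omega.NOThreeL.AdjTransv
import Cfsg.Agent.ZN.Facts

/-!
# THEOREM VF (#16966, #17335), (3'), (5'), abstract form

`Core` : `Sit M₀ W V`, `P ≤ M₀` normalises `V`, `T ≤ P` a 2-group with `W ≤ T`, `zc T ≤ V`; no subgroup of `M₀`
over-offends on `W`; a root group `a, f, l` (`RootM`); `f (p u p⁻¹) = 0` for all `p ∈ P` only for `u = 1`.

* `Core.comm` : `C_{M₀}(V) = C_{M₀}(W)`;
* `Core.eq_one` : an element of `W` which commutes with all conjugates of the root group is trivial;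
* `Core.le` : `W ≤ V` if `W = V C_W(K i)` for a family `K i` which covers the conjugates of the root group, and
  glues.
-/

set_option autoImplicit false

namespace Cfsg.Agent.Omega.NOThreeL.VF.Q

open Subgroup Cfsg Cfsg.Agent.Omega.FFThm Cfsg.Agent.ZN

universe u

variable {G : Type u} [Group G]

/-- The common situation for natural `SL₂(F)`-modules and even subset modules. -/
structure Core (T P M₀ W V : Subgroup G) (B : Type*) [AddGroup B] (a : B → G) (l : G) (f : G → B) : Prop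
    extends Sit M₀ W V where
  two : IsPGroup 2 T
  TP : T ≤ P
  PM : P ≤ M₀
  nV : P ≤ normalizer (V : Set G)
  WT : W ≤ T
  zV : zc T ≤ V
  no : NoOverM W M₀
  one_lt : 1 < Nat.card B
  root : RootM M₀ W V B a l f
  aP : ∀ b, a b ∈ P
  lP : l ∈ P
  ker : ∀ u ∈ V, (∀ p ∈ P, f (p * u * p⁻¹) = 0) → u = 1

namespace Core

variable {T P M₀ W V : Subgroup G} {B : Type*} [AddGroup B] {a : B → G} {l : G} {f : G → B}
variable (c : Core T P M₀ W V B a l f)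
include c

theorem cjV {p v : G} (hp : p ∈ P) (hv : v ∈ V) : p * v * p⁻¹ ∈ V := (mem_normalizer_iff.1 (c.nV hp) v).1 hv

theorem cjV' {p v : G} (hp : p ∈ P) (hv : v ∈ V) : p⁻¹ * v * p ∈ V := by
  have := c.cjV (P.inv_mem hp) hv
  rwa [inv_inv] at this

theorem cjW {p v : G} (hp : p ∈ P) (hv : v ∈ W) : p * v * p⁻¹ ∈ W := c.cj_mem (c.PM hp) hv

theorem cjW' {p v : G} (hp : p ∈ P) (hv : v ∈ W) : p⁻¹ * v * p ∈ W := by
  have := c.cjW (P.inv_mem hp) hv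
  rwa [inv_inv] at this

/-- the conjugates of the root group act trivially on `W / V` -/
theorem aW {p : G} (hp : p ∈ P) (b : B) {w : G} (hw : w ∈ W) : k (p * a b * p⁻¹) w ∈ V := by
  have e : w = p * (p⁻¹ * w * p) * p⁻¹ := by group
  rw [e, k_cj]
  exact c.cjV hp (c.root.aW b _ (c.cjW' hp hw))

/-- **LEMMA D**, all conjugates. -/
theorem lemD [Finite G] [Finite B] {d : G} (hd : d ∈ M₀) (hdV : ∀ v ∈ V, k d v = 1)
    (hdW : ∀ w ∈ W, k d w ∈ V) {w : G} (hw : w ∈ W) : k d w = 1 := by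
  refine c.ker _ (hdW w hw) fun p hp => ?_
  rw [← k_cj]
  refine Q.lemD c.toSit c.no c.one_lt c.root (M₀.mul_mem (M₀.mul_mem (c.PM hp) hd) (M₀.inv_mem (c.PM hp)))
    (fun v hv => ?_) (fun v hv => ?_) (c.cjW hp hw)
  · have e : v = p * (p⁻¹ * v * p) * p⁻¹ := by group
    rw [e, k_cj, hdV _ (c.cjV' hp hv)]
    group
  · have e : v = p * (p⁻¹ * v * p) * p⁻¹ := by group
    rw [e, k_cj]
    exact c.cjV hp (hdW _ (c.cjW' hp hv))

/-- An element of `W` which commutes with all conjugates of the root group is trivial. -/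
theorem eq_one [Finite G] {u : G} (hu : u ∈ W) (h : ∀ p ∈ P, ∀ b, k (p * a b * p⁻¹) u = 1) : u = 1 := by
  let C : Subgroup G := W ⊓ centralizer {x | ∃ p ∈ P, ∃ b, x = p * a b * p⁻¹}
  have hC : ∀ {v : G}, v ∈ C ↔ v ∈ W ∧ ∀ p ∈ P, ∀ b, k (p * a b * p⁻¹) v = 1 := by
    intro v
    rw [mem_inf, mem_centralizer_iff]
    refine and_congr_right fun _ => ⟨fun h p hp b => k_eq_one.2 (h _ ⟨p, hp, b, rfl⟩), ?_⟩
    rintro h _ ⟨p, hp, b, rfl⟩
    exact k_eq_one.1 (h p hp b)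
  -- elements of `C ∩ V` are trivial
  have h1 : ∀ v ∈ C, v ∈ V → v = 1 := by
    intro v hv hvV
    refine c.ker v hvV fun p hp => ?_
    obtain ⟨b, hb⟩ : ∃ b : B, b ≠ 0 := by
      by_contra hcon
      push Not at hcon
      have h2 := c.one_lt
      have h3 : Subsingleton B := ⟨fun x y => by rw [hcon x, hcon y]⟩
      have h4 : Nat.card B ≤ 1 := by
        rcases isEmpty_or_nonempty B with h5 | h5
        · rw [Nat.card_of_isEmpty]; exact Nat.zero_le _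
        · rw [Nat.card_unique]
      omega
    refine c.root.inj b hb _ (c.cjV hp hvV) ?_
    have h2 := (hC.1 hv).2 _ (P.inv_mem hp) b
    have e : p⁻¹ * a b * p⁻¹⁻¹ = p⁻¹ * a b * p := by rw [inv_inv]
    rw [e] at h2
    have h3 := k_cj p (p⁻¹ * a b * p) v
    have e2 : p * (p⁻¹ * a b * p) * p⁻¹ = a b := by group
    rw [e2, h2] at h3
    rw [h3]; group
  have hCn : T ≤ normalizer (C : Set G) := by
    have key : ∀ t ∈ P, ∀ v ∈ C, t * v * t⁻¹ ∈ C := by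
      intro t ht v hv
      rw [hC] at hv ⊢
      refine ⟨c.cjW ht hv.1, fun p hp b => ?_⟩
      have h2 := hv.2 (t⁻¹ * p) (P.mul_mem (P.inv_mem ht) hp) b
      have h3 := k_cj t (t⁻¹ * p * a b * (t⁻¹ * p)⁻¹) v
      have e2 : t * (t⁻¹ * p * a b * (t⁻¹ * p)⁻¹) * t⁻¹ = p * a b * p⁻¹ := by group
      rw [e2, h2] at h3
      rw [h3]; group
    intro t ht
    rw [mem_normalizer_iff]
    intro v
    refine ⟨key t (c.TP ht) v, fun h2 => ?_⟩
    have h3 := key t⁻¹ (P.inv_mem (c.TP ht)) _ h2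
    have e : t⁻¹ * (t * v * t⁻¹) * t⁻¹⁻¹ = v := by group
    rwa [e] at h3
  by_contra hne
  have huC : u ∈ C := hC.2 ⟨hu, h⟩
  have hCne : C ≠ ⊥ := fun h2 => hne (by rwa [h2, mem_bot] at huC)
  obtain ⟨z, hz, hz1, hzT⟩ := AdjTransv.exists_fixed c.two hCne (fun n hn => c.sq n hn.1)
    fun s hs n hn => (mem_normalizer_iff.1 (hCn hs) n).1 hn
  have hzc : z ∈ zc T := by
    rw [mem_zc]
    refine ⟨c.WT hz.1, fun s hs => mul_inv_eq_iff_eq_mul.1 (hzT s hs), ?_⟩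
    rw [pow_two]
    exact c.sq z hz.1
  exact hz1 (h1 z hz (c.zV hzc))

/-- **(3')** `C_{M₀}(V) = C_{M₀}(W)`. -/
theorem comm [Finite G] [Finite B] {x : G} (hx : x ∈ M₀) (hxV : ∀ v ∈ V, k x v = 1) {w : G} (hw : w ∈ W) :
    k x w = 1 := by
  refine c.eq_one (c.k_mem hx hw) fun p hp b => ?_
  have hy : p * a b * p⁻¹ ∈ P := P.mul_mem (P.mul_mem hp (c.aP b)) (P.inv_mem hp)
  generalize hY : p * a b * p⁻¹ = y at hy
  have hyW : ∀ w ∈ W, k y w ∈ V := fun w hw => hY ▸ c.aW hp b hw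
  refine c.comm_of hx (c.PM hy) hw hxV hyW fun w hw => ?_
  refine c.lemD (M₀.mul_mem (M₀.mul_mem (M₀.mul_mem (c.PM hy) hx) (M₀.inv_mem (c.PM hy))) (M₀.inv_mem hx))
    (fun v hv => ?_) (fun w hw => ?_) hw
  · rw [k_eq_one]
    have e1 : x * v = v * x := k_eq_one.1 (hxV v hv)
    have e2 : x * (y⁻¹ * v * y) = y⁻¹ * v * y * x := k_eq_one.1 (hxV _ (c.cjV' hy hv))
    have e3 : x⁻¹ * v = v * x⁻¹ := by
      calc x⁻¹ * v = x⁻¹ * (v * x) * x⁻¹ := by group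
        _ = x⁻¹ * (x * v) * x⁻¹ := by rw [e1]
        _ = v * x⁻¹ := by group
    calc y * x * y⁻¹ * x⁻¹ * v = y * x * y⁻¹ * (x⁻¹ * v) := by group
      _ = y * x * y⁻¹ * (v * x⁻¹) := by rw [e3]
      _ = y * (x * (y⁻¹ * v * y)) * y⁻¹ * x⁻¹ := by group
      _ = y * (y⁻¹ * v * y * x) * y⁻¹ * x⁻¹ := by rw [e2]
      _ = v * (y * x * y⁻¹ * x⁻¹) := by group
  · -- modulo `V`
    have h1 : ∀ w ∈ W, ∃ v ∈ V, y * w * y⁻¹ = v * w := fun w hw => ⟨k y w, hyW w hw, cj_eq y w⟩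
    have h1' : ∀ w ∈ W, ∃ v ∈ V, y⁻¹ * w * y = v * w := by
      intro w hw
      obtain ⟨v, hv, h2⟩ := h1 (y⁻¹ * w * y) (c.cjW' hy hw)
      have e : y * (y⁻¹ * w * y) * y⁻¹ = w := by group
      rw [e] at h2
      refine ⟨v⁻¹, V.inv_mem hv, ?_⟩
      generalize y⁻¹ * w * y = w' at h2 ⊢
      rw [h2]; group
    have hw1 : x⁻¹ * w * x ∈ W := by
      have := c.cj_mem (M₀.inv_mem hx) hw
      rwa [inv_inv] at this
    obtain ⟨v, hv, h2⟩ := h1' _ hw1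
    have hw2 : y⁻¹ * (x⁻¹ * w * x) * y ∈ W := c.cjW' hy hw1
    have hw3 : x * (y⁻¹ * (x⁻¹ * w * x) * y) * x⁻¹ = v * w := by
      rw [h2]
      have e1 : x * v = v * x := k_eq_one.1 (hxV v hv)
      calc x * (v * (x⁻¹ * w * x)) * x⁻¹ = x * v * x⁻¹ * w := by group
        _ = v * w := by rw [e1]; group
    obtain ⟨v', hv', h3⟩ := h1 (v * w) (W.mul_mem (c.VW hv) hw)
    have h4 : y * x * y⁻¹ * x⁻¹ * w * (y * x * y⁻¹ * x⁻¹)⁻¹ = v' * (v * w) := by
      rw [← h3, ← hw3]; group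
    rw [k_def, h4]
    have e : v' * (v * w) * w⁻¹ = v' * v := by group
    rw [e]
    exact V.mul_mem hv' hv

/-- **(5')** -/
theorem le [Finite G] {ι : Type*} (K : ι → Subgroup G)
    (h1 : ∀ i, ∀ w ∈ W, ∃ v ∈ V, v⁻¹ * w ∈ centralizer (K i : Set G))
    (h2 : ∀ y : ι → G, (∀ i, y i ∈ V) → ∃ v ∈ V, ∀ i, v⁻¹ * y i ∈ centralizer (K i : Set G))
    (h3 : ∀ p ∈ P, ∀ b, ∃ i, p * a b * p⁻¹ ∈ K i) : W ≤ V := by
  intro w hw
  choose y hy hyc using fun i => h1 i w hw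
  obtain ⟨v, hv, hvc⟩ := h2 y hy
  have h4 : ∀ i, v⁻¹ * w ∈ centralizer (K i : Set G) := fun i => by
    have e : v⁻¹ * w = (v⁻¹ * y i) * ((y i)⁻¹ * w) := by group
    rw [e]
    exact mul_mem (hvc i) (hyc i)
  have h5 : v⁻¹ * w = 1 := by
    refine c.eq_one (W.mul_mem (W.inv_mem (c.VW hv)) hw) fun p hp b => ?_
    obtain ⟨i, hi⟩ := h3 p hp b
    exact k_eq_one.2 (mem_centralizer_iff.1 (h4 i) _ hi)
  rw [inv_mul_eq_one] at h5
  rw [← h5]
  exact hv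

end Core

end Cfsg.Agent.Omega.NOThreeL.VF.Q
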