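import Cfsg.Agent.Omega.FFThmM

/-!
# THEOREM VF, LEMMA D, abstract form (#16966 (2), helper597)

`N ≤ W ≤ V` (`V` abelian), `L` normalises `V`, `N`, `E`, `[V, L] ≤ W`, `N` is irreducible under `L`, some `a ∈ L`
acts nontrivially on `N` and fixes some `1 ≠ n ∈ N`; `[W, E] = 1`, `[V, E] ≤ N`.

`lemD` : if no subgroup of `E` is an over-offender on `V`, then `E` centralises `V`.
-/

set_option autoImplicit false

namespace Cfsg.Agent.Omega.NOThreeL.VF

open Subgroup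

universe u

variable {G : Type u} [Group G]

/-- The commutator `x v x⁻¹ v⁻¹`. -/
def br (x v : G) : G := x * v * x⁻¹ * v⁻¹

theorem br_eq_one_iff {x v : G} : br x v = 1 ↔ x * v = v * x := by
  unfold br
  constructor
  · intro h
    have h1 : x * v = (x * v * x⁻¹ * v⁻¹) * (v * x) := by group
    rw [h1, h, one_mul]
  · intro h
    rw [h]; group

/-- A function which is multiplicative on a subgroup. -/
def homOn (H : Subgroup G) (f : G → G) (hf : ∀ a ∈ H, ∀ b ∈ H, f (a * b) = f a * f b) : H →* G :=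
  MonoidHom.mk' (fun a => f a) fun a b => hf a a.2 b b.2

theorem card_hom [Finite G] {H K I : Subgroup G} (f : G → G) (hf : ∀ a ∈ H, ∀ b ∈ H, f (a * b) = f a * f b)
    (hK : ∀ a, a ∈ K ↔ a ∈ H ∧ f a = 1) (hI : ∀ u, u ∈ I ↔ ∃ a ∈ H, f a = u) :
    Nat.card H = Nat.card I * Nat.card K := by
  have h1 := (homOn H f hf).ker.card_mul_index
  rw [Subgroup.index_ker] at h1
  have h2 : (homOn H f hf).ker.map H.subtype = K := by
    ext a
    rw [hK, mem_map]
    constructor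
    · rintro ⟨b, hb, rfl⟩
      exact ⟨b.2, hb⟩
    · rintro ⟨ha, h⟩
      exact ⟨⟨a, ha⟩, h, rfl⟩
  have h3 : (homOn H f hf).range = I := by
    ext u
    rw [hI, MonoidHom.mem_range]
    constructor
    · rintro ⟨a, ha⟩
      exact ⟨a, a.2, ha⟩
    · rintro ⟨a, ha, h⟩
      exact ⟨⟨a, ha⟩, h⟩
  have h4 : Nat.card K = Nat.card (homOn H f hf).ker := by
    rw [← h2]
    exact Nat.card_congr ((homOn H f hf).ker.equivMapOfInjective H.subtype H.subtype_injective).symm.toEquiv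
  rw [← h1, h3, ← h4, mul_comm]

/-- The image of a subgroup under a function which is multiplicative on it. -/
def imOn (H : Subgroup G) (f : G → G) (hf : ∀ a ∈ H, ∀ b ∈ H, f (a * b) = f a * f b) : Subgroup G :=
  (homOn H f hf).range

theorem mem_imOn {H : Subgroup G} {f : G → G} {hf : ∀ a ∈ H, ∀ b ∈ H, f (a * b) = f a * f b} {u : G} :
    u ∈ imOn H f hf ↔ ∃ a ∈ H, f a = u := by
  unfold imOn
  rw [MonoidHom.mem_range]
  constructor
  · rintro ⟨a, ha⟩
    exact ⟨a, a.2, ha⟩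
  · rintro ⟨a, ha, h⟩
    exact ⟨⟨a, ha⟩, h⟩

variable [Finite G] {V W N E L : Subgroup G}

/-- **LEMMA D, abstract.** -/
theorem lemD (hV : ∀ v ∈ V, ∀ w ∈ V, v * w = w * v) (hNW : N ≤ W) (hWV : W ≤ V)
    (hLE : L ≤ normalizer (E : Set G)) (hLW : ∀ l ∈ L, ∀ v ∈ V, br l v ∈ W)
    (hE : E ≤ centralizer (W : Set G)) (hEN : ∀ x ∈ E, ∀ v ∈ V, br x v ∈ N)
    (irr : ∀ N' ≤ N, L ≤ normalizer (N' : Set G) → N' ≠ ⊥ → N ≤ N')
    {a : G} (ha : a ∈ L) {n₀ n₁ : G} (hn₀ : n₀ ∈ N) (hn₀1 : n₀ ≠ 1) (han₀ : a * n₀ = n₀ * a)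
    (hn₁ : n₁ ∈ N) (han₁ : a * n₁ ≠ n₁ * a)
    (star : ∀ F : Subgroup G, F ≤ E → Nat.card F * Nat.card ↥(V ⊓ centralizer (F : Set G)) ≤
      Nat.card V * Nat.card ↥(F ⊓ centralizer (V : Set G))) :
    E ≤ centralizer (V : Set G) := by
  classical
  have cEW : ∀ x ∈ E, ∀ w ∈ W, x * w = w * x := fun x hx w hw => (mem_centralizer_iff.1 (hE hx) w hw).symm
  have cEN : ∀ x ∈ E, ∀ w ∈ N, x * w = w * x := fun x hx w hw => cEW x hx w (hNW hw)
  have hNV : N ≤ V := hNW.trans hWV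
  -- conjugation in `V` by elements of `E`
  have hEV : ∀ x ∈ E, ∀ v ∈ V, x * v * x⁻¹ ∈ V := by
    intro x hx v hv
    have h1 := mul_mem (hNV (hEN x hx v hv)) hv
    have e : br x v * v = x * v * x⁻¹ := by unfold br; group
    rwa [e] at h1
  have brL : ∀ x ∈ E, ∀ y ∈ E, ∀ v ∈ V, br (x * y) v = br x v * br y v := by
    intro x hx y hy v hv
    have h1 := cEN x hx _ (hEN y hy v hv)
    have h2 := hV _ (hNV (hEN x hx v hv)) _ (hNV (hEN y hy v hv))
    have e1 : br (x * y) v = x * br y v * (v * x⁻¹ * v⁻¹) := by unfold br; group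
    have e2 : br x v = x * (v * x⁻¹ * v⁻¹) := by unfold br; group
    rw [e1, h1, h2, e2]
    group
  have brR : ∀ x ∈ E, ∀ v ∈ V, ∀ w ∈ V, br x (v * w) = br x v * br x w := by
    intro x hx v hv w hw
    have h1 := hV _ (hNV (hEN x hx w hw)) _ (inv_mem hv)
    have e1 : br x (v * w) = x * v * x⁻¹ * (br x w * v⁻¹) := by unfold br; group
    rw [e1, h1]
    unfold br; group
  have brI : ∀ x ∈ E, ∀ v ∈ V, br x⁻¹ v = (br x v)⁻¹ := by
    intro x hx v hv
    have h1 := brL x⁻¹ (inv_mem hx) x hx v hv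
    have e : br (x⁻¹ * x) v = 1 := by unfold br; group
    rw [e] at h1
    exact eq_inv_of_mul_eq_one_left h1.symm
  -- `br (l x l⁻¹) v = l (br x v) l⁻¹`
  have brC : ∀ l ∈ L, ∀ x ∈ E, ∀ v ∈ V, br (l * x * l⁻¹) v = l * br x v * l⁻¹ := by
    intro l hl x hx v hv
    have hx' : l * x * l⁻¹ ∈ E := (mem_normalizer_iff.1 (hLE hl) x).1 hx
    have h1 : br l v ∈ W := hLW l hl v hv
    have h2 : l * v * l⁻¹ = br l v * v := by unfold br; group
    have h3 : br (l * x * l⁻¹) (l * v * l⁻¹) = l * br x v * l⁻¹ := by unfold br; group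
    rw [← h3, h2, brR _ hx' _ (hWV h1) _ hv, br_eq_one_iff.2 (cEW _ hx' _ h1), one_mul]
  by_contra hcon
  -- choose `x` with `C_V(x)` maximal
  obtain ⟨x, ⟨hx, hxV⟩, hmax⟩ : ∃ x, (x ∈ E ∧ x ∉ centralizer (V : Set G)) ∧
      ∀ y, (y ∈ E ∧ y ∉ centralizer (V : Set G)) →
        Nat.card ↥(V ⊓ centralizer ({y} : Set G)) ≤ Nat.card ↥(V ⊓ centralizer ({x} : Set G)) := by
    have hne : {x : G | x ∈ E ∧ x ∉ centralizer (V : Set G)}.Nonempty := by
      obtain ⟨x, hx, hx1⟩ := SetLike.not_le_iff_exists.1 hcon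
      exact ⟨x, hx, hx1⟩
    obtain ⟨x, hx, h⟩ := Set.exists_max_image {x : G | x ∈ E ∧ x ∉ centralizer (V : Set G)}
      (fun x => Nat.card ↥(V ⊓ centralizer ({x} : Set G))) (Set.toFinite _) hne
    exact ⟨x, hx, h⟩
  set K : Subgroup G := V ⊓ centralizer ({x} : Set G) with hK
  have mK : ∀ v, v ∈ K ↔ v ∈ V ∧ br x v = 1 := by
    intro v
    rw [hK, mem_inf, mem_centralizer_singleton_iff, br_eq_one_iff]
    exact and_congr_right fun _ => eq_comm
  -- the image of `x`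
  set I : Subgroup G := imOn V (br x) (brR x hx) with hI
  have mI : ∀ u, u ∈ I ↔ ∃ v ∈ V, br x v = u := fun u => mem_imOn
  have cardV : Nat.card V = Nat.card I * Nat.card K := card_hom (br x) (brR x hx) mK mI
  have hIN : I ≤ N := by
    intro u hu
    obtain ⟨v, hv, rfl⟩ := (mI u).1 hu
    exact hEN x hx v hv
  -- `E_x`
  set Ex : Subgroup G := E ⊓ centralizer (K : Set G) with hEx
  have hExE : Ex ≤ E := inf_le_left
  have hxE : x ∈ Ex := mem_inf.2 ⟨hx, mem_centralizer_iff.2 fun v hv => by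
    have := (mK v).1 hv
    exact (br_eq_one_iff.1 this.2).symm⟩
  have hCV : V ⊓ centralizer (Ex : Set G) = K := by
    apply le_antisymm
    · intro v hv
      rw [mem_inf] at hv
      rw [mK]
      exact ⟨hv.1, br_eq_one_iff.2 (mem_centralizer_iff.1 hv.2 x hxE)⟩
    · refine le_inf inf_le_left ?_
      rw [← le_centralizer_iff]
      exact inf_le_right
  have hLEx : ∀ l ∈ L, ∀ y ∈ Ex, l * y * l⁻¹ ∈ Ex := by
    intro l hl y hy
    rw [mem_inf] at hy ⊢
    refine ⟨(mem_normalizer_iff.1 (hLE hl) y).1 hy.1, mem_centralizer_iff.2 fun v hv => ?_⟩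
    have hvV := ((mK v).1 hv).1
    have h1 := brC l hl y hy.1 v hvV
    rw [br_eq_one_iff.2 (mem_centralizer_iff.1 hy.2 v hv).symm] at h1
    have h2 : br (l * y * l⁻¹) v = 1 := by rw [h1]; group
    exact (br_eq_one_iff.1 h2).symm
  -- evaluation at `w ∈ V - K`
  obtain ⟨w, hw, hxw⟩ : ∃ w ∈ V, br x w ≠ 1 := by
    by_contra hc
    push Not at hc
    exact hxV (mem_centralizer_iff.2 fun v hv => (br_eq_one_iff.1 (hc v hv)).symm)
  have hfw : ∀ y ∈ Ex, ∀ y' ∈ Ex, br (y * y') w = br y w * br y' w :=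
    fun y hy y' hy' => brL y (hExE hy) y' (hExE hy') w hw
  set J : Subgroup G := imOn Ex (fun y => br y w) hfw with hJ
  have mJ : ∀ u, u ∈ J ↔ ∃ y ∈ Ex, br y w = u := fun u => mem_imOn
  have hJN : J ≤ N := by
    intro u hu
    obtain ⟨y, hy, rfl⟩ := (mJ u).1 hu
    exact hEN y (hExE hy) w hw
  have hLJ' : ∀ l ∈ L, ∀ u ∈ J, l * u * l⁻¹ ∈ J := by
    intro l hl u hu
    obtain ⟨y, hy, rfl⟩ := (mJ u).1 hu
    exact (mJ _).2 ⟨l * y * l⁻¹, hLEx l hl y hy, brC l hl y (hExE hy) w hw⟩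
  have hLJ : L ≤ normalizer (J : Set G) := by
    intro l hl
    rw [mem_normalizer_iff]
    intro u
    refine ⟨hLJ' l hl u, fun h => ?_⟩
    have h1 := hLJ' l⁻¹ (inv_mem hl) _ h
    have e : l⁻¹ * (l * u * l⁻¹) * l⁻¹⁻¹ = u := by group
    rwa [e] at h1
  have hJ1 : J ≠ ⊥ := by
    intro h
    have h1 : br x w ∈ J := (mJ _).2 ⟨x, hxE, rfl⟩
    rw [h, mem_bot] at h1
    exact hxw h1
  have hJe : J = N := le_antisymm hJN (irr J hJN hLJ hJ1)
  -- counting
  set Kw : Subgroup G := Ex ⊓ centralizer ({w} : Set G) with hKw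
  have mKw : ∀ y, y ∈ Kw ↔ y ∈ Ex ∧ br y w = 1 := by
    intro y
    rw [hKw, mem_inf, mem_centralizer_singleton_iff, br_eq_one_iff]
  have cardE : Nat.card Ex = Nat.card J * Nat.card Kw := card_hom (fun y => br y w) hfw mKw mJ
  have hKwle : Ex ⊓ centralizer (V : Set G) ≤ Kw := by
    intro y hy
    rw [mem_inf] at hy
    rw [mKw]
    exact ⟨hy.1, br_eq_one_iff.2 (mem_centralizer_iff.1 hy.2 w hw).symm⟩
  have c1 : Nat.card ↥(Ex ⊓ centralizer (V : Set G)) ≤ Nat.card Kw := Subgroup.card_le_of_le hKwle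
  have c2 := star Ex hExE
  rw [hCV, cardE, hJe] at c2
  have c3 : Nat.card N * Nat.card K ≤ Nat.card V := by
    have p1 : 0 < Nat.card Kw := Nat.card_pos
    have h1 : Nat.card N * Nat.card Kw * Nat.card K ≤ Nat.card V * Nat.card Kw :=
      c2.trans (Nat.mul_le_mul_left _ c1)
    have h2 : Nat.card Kw * (Nat.card N * Nat.card K) ≤ Nat.card Kw * Nat.card V := by
      calc Nat.card Kw * (Nat.card N * Nat.card K) = Nat.card N * Nat.card Kw * Nat.card K := by ring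
        _ ≤ _ := h1
        _ = _ := by ring
    exact Nat.le_of_mul_le_mul_left h2 p1
  have hIe : I = N := by
    rw [cardV] at c3
    have p1 : 0 < Nat.card K := Nat.card_pos
    have h1 : Nat.card N ≤ Nat.card I := Nat.le_of_mul_le_mul_right c3 p1
    exact Subgroup.eq_of_le_of_card_ge hIN h1
  -- `y = [a, x]`
  have hax : a * x * a⁻¹ ∈ E := (mem_normalizer_iff.1 (hLE ha) x).1 hx
  set y : G := a * x * a⁻¹ * x⁻¹ with hy
  have hyE : y ∈ E := mul_mem hax (inv_mem hx)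
  have bry : ∀ v ∈ V, br y v = br a (br x v) := by
    intro v hv
    rw [hy, brL _ hax _ (inv_mem hx) v hv, brC a ha x hx v hv, brI x hx v hv]
    rfl
  have hyV : y ∉ centralizer (V : Set G) := by
    intro h
    obtain ⟨v, hv, hv1⟩ := (mI n₁).1 (hIe ▸ hn₁)
    have h1 := bry v hv
    rw [br_eq_one_iff.2 (mem_centralizer_iff.1 h v hv).symm, hv1] at h1
    exact han₁ (br_eq_one_iff.1 h1.symm)
  have h1 := hmax y ⟨hyE, hyV⟩
  have hle : K ≤ V ⊓ centralizer ({y} : Set G) := by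
    intro v hv
    have hv' := (mK v).1 hv
    rw [mem_inf, mem_centralizer_singleton_iff]
    refine ⟨hv'.1, ?_⟩
    have h2 := bry v hv'.1
    rw [hv'.2] at h2
    have h3 : br y v = 1 := by rw [h2]; unfold br; group
    exact (br_eq_one_iff.1 h3).symm
  have heq := Subgroup.eq_of_le_of_card_ge hle h1
  obtain ⟨v, hv, hv1⟩ := (mI n₀).1 (hIe ▸ hn₀)
  have h2 := bry v hv
  rw [hv1, br_eq_one_iff.2 han₀] at h2
  have h3 : v ∈ V ⊓ centralizer ({y} : Set G) := by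
    rw [mem_inf, mem_centralizer_singleton_iff]
    exact ⟨hv, (br_eq_one_iff.1 h2).symm⟩
  rw [← heq] at h3
  exact hn₀1 (hv1 ▸ ((mK v).1 h3).2)

end Cfsg.Agent.Omega.NOThreeL.VF
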