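import Cfsg.Agent.Omega.NOThreeL.VF.Core

/-!
# THEOREM VF: an exact offender `A` on `W` with `C_A(V) = C_A(W)`

* `offM_of` : `A` is an offender on `V ≤ W`;
* `exists_split` : if `A` does not over-offend on `V` then `W = V C_W(A)`.
-/

set_option autoImplicit false

namespace Cfsg.Agent.Omega.NOThreeL.VF.Q

open Subgroup Cfsg Cfsg.Agent.Omega.FFThm
open scoped Pointwise

universe u

variable {G : Type u} [Group G]

namespace Sit

variable {M₀ W V A : Subgroup G} (s : Sit M₀ W V)
include s

theorem inf_cent (hAC : A ⊓ centralizer (V : Set G) ≤ centralizer (W : Set G)) :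
    A ⊓ centralizer (V : Set G) = A ⊓ centralizer (W : Set G) :=
  le_antisymm (le_inf inf_le_left hAC) (inf_le_inf_left _ (centralizer_le s.VW))

omit s in
theorem relIndex_inf_eq [Finite G] {B C : Subgroup G} (h : A ⊓ B = A ⊓ C) : B.relIndex A = C.relIndex A := by
  rw [← inf_relIndex_left, h, inf_relIndex_left]

/-- `A` is an offender on `V`. -/
theorem offM_of [Finite G] (off : OffM W A) (hne : ¬ A ≤ centralizer (V : Set G))
    (hAC : A ⊓ centralizer (V : Set G) ≤ centralizer (W : Set G)) : OffM V A where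
  sq a ha := centralizer_le s.VW (off.sq a ha)
  comm a ha b hb := centralizer_le s.VW (off.comm a ha b hb)
  ne := hne
  le := by
    rw [relIndex_le_iff, relIndex_inf_eq (s.inf_cent hAC)]
    refine le_trans ?_ (relIndex_le_iff.1 off.le)
    -- `|V : C_V(A)| ≤ |W : C_W(A)|`
    let φ : V ⧸ (centralizer (A : Set G)).subgroupOf V → W ⧸ (centralizer (A : Set G)).subgroupOf W :=
      Quotient.map' (fun v => ⟨v, s.VW v.2⟩) fun x y h => by
        rw [QuotientGroup.leftRel_apply] at h ⊢
        exact h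
    have hφ : Function.Injective φ := by
      intro x y h
      induction x using QuotientGroup.induction_on with | _ x =>
      induction y using QuotientGroup.induction_on with | _ y =>
      have h1 := QuotientGroup.eq.1 h
      exact QuotientGroup.eq.2 h1
    exact Nat.card_le_card_of_injective φ hφ

/-- `W = V C_W(A)` -/
theorem exists_split [Finite G] (off : OffM W A)
    (hAC : A ⊓ centralizer (V : Set G) ≤ centralizer (W : Set G))
    (hno : Nat.card A * Nat.card ↥(V ⊓ centralizer (A : Set G)) ≤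
      Nat.card V * Nat.card ↥(A ⊓ centralizer (V : Set G))) {w : G} (hw : w ∈ W) :
    ∃ v ∈ V, v⁻¹ * w ∈ centralizer (A : Set G) := by
  have h1 := off.le
  rw [s.inf_cent hAC] at hno
  have pA : 0 < Nat.card A := Nat.card_pos
  have p0 : 0 < Nat.card ↥(A ⊓ centralizer (W : Set G)) := Nat.card_pos
  have pV : 0 < Nat.card ↥(V ⊓ centralizer (A : Set G)) := Nat.card_pos
  -- `|W| |C_V(A)| ≤ |V| |C_W(A)|`
  have h2 : Nat.card W * Nat.card ↥(V ⊓ centralizer (A : Set G)) ≤
      Nat.card V * Nat.card ↥(W ⊓ centralizer (A : Set G)) := by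
    refine Nat.le_of_mul_le_mul_left ?_ (Nat.mul_pos pA p0)
    calc Nat.card A * Nat.card ↥(A ⊓ centralizer (W : Set G)) *
          (Nat.card W * Nat.card ↥(V ⊓ centralizer (A : Set G)))
        = Nat.card W * Nat.card ↥(A ⊓ centralizer (W : Set G)) *
          (Nat.card A * Nat.card ↥(V ⊓ centralizer (A : Set G))) := by ring
      _ ≤ Nat.card A * Nat.card ↥(W ⊓ centralizer (A : Set G)) *
          (Nat.card V * Nat.card ↥(A ⊓ centralizer (W : Set G))) := Nat.mul_le_mul h1 hno
      _ = _ := by ring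
  have hc : W ⊓ centralizer (A : Set G) ≤ centralizer (V : Set G) := by
    intro x hx
    rw [mem_centralizer_iff]
    intro v hv
    exact s.ab _ (s.VW hv) _ hx.1
  have h3 := Cfsg.Agent.PLocal.ElemAbSup.card_sup_mul_card_inf hc
  have h4 : V ⊓ (W ⊓ centralizer (A : Set G)) = V ⊓ centralizer (A : Set G) := by
    rw [← inf_assoc, inf_eq_left.2 s.VW]
  rw [h4] at h3
  have h5 : Nat.card W ≤ Nat.card ↥(V ⊔ W ⊓ centralizer (A : Set G)) := by
    refine Nat.le_of_mul_le_mul_right ?_ pV
    rw [h3]; exact h2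
  have h6 : V ⊔ W ⊓ centralizer (A : Set G) = W :=
    eq_of_le_of_card_ge (sup_le s.VW inf_le_left) h5
  have h7 : w ∈ V ⊔ W ⊓ centralizer (A : Set G) := by rw [h6]; exact hw
  have h8 : (w : G) ∈ (V : Set G) * ((W ⊓ centralizer (A : Set G) : Subgroup G) : Set G) := by
    rw [← Cfsg.Agent.PLocal.ElemAbSup.coe_sup_of_le_centralizer hc]
    exact h7
  obtain ⟨v, hv, c, hc', rfl⟩ := h8
  refine ⟨v, hv, ?_⟩
  have e : v⁻¹ * (v * c) = c := by group
  change v⁻¹ * (v * c) ∈ _
  rw [e]
  exact hc'.2

end Sit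

end Cfsg.Agent.Omega.NOThreeL.VF.Q
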